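import Groth.Agent.OmegaSh.K583.AlgUniv
import Groth.Agent.OmegaSh.K583.DerFunct
import Groth.Agent.CurvesB.OmegaDer
import Groth.Agent.Sga67.Sec
import Groth.Prelude.Def_Omega4

/-!
# Universality of a derivation from affine charts; `OmegaSh.dOmega f` is universal
-/

set_option autoImplicit false
set_option linter.unusedVariables false
universe u
open CategoryTheory CategoryTheory.Limits AlgebraicGeometry TopologicalSpace Opposite OmegaSh

namespace K136.UnivOmega

open K583.AlgUniv K583.DerAffine Groth.Agent.Sga67.Sec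

variable {X Y : Scheme.{u}} (f : X ⟶ Y)

/-- Pairs of affine opens `W ⊆ X`, `U ⊆ Y` with `W ≤ f⁻¹ U`. -/
def Pairs : Type u := {p : X.affineOpens × Y.affineOpens // p.1.1 ≤ f ⁻¹ᵁ p.2.1}

/-- The upper open of a pair. -/
def Pairs.W {f : X ⟶ Y} (p : Pairs f) : X.Opens := p.1.1.1

/-- The lower open of a pair. -/
def Pairs.U {f : X ⟶ Y} (p : Pairs f) : Y.Opens := p.1.2.1

theorem Pairs.hW {f : X ⟶ Y} (p : Pairs f) : IsAffineOpen p.W := p.1.1.2

theorem Pairs.hU {f : X ⟶ Y} (p : Pairs f) : IsAffineOpen p.U := p.1.2.2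

theorem Pairs.le {f : X ⟶ Y} (p : Pairs f) : p.W ≤ f ⁻¹ᵁ p.U := p.2

theorem exists_pair {x : X} {V : X.Opens} (hx : x ∈ V) : ∃ p : Pairs f, x ∈ p.W ∧ p.W ≤ V := by
  obtain ⟨_, ⟨U, hU, rfl⟩, hxU, -⟩ :=
    Y.isBasis_affineOpens.exists_subset_of_mem_open (Set.mem_univ (f x)) isOpen_univ
  obtain ⟨_, ⟨W, hW, rfl⟩, hxW, hWV⟩ :=
    X.isBasis_affineOpens.exists_subset_of_mem_open (a := x) (u := (V ⊓ f ⁻¹ᵁ U : X.Opens))
      ⟨hx, hxU⟩ (V ⊓ f ⁻¹ᵁ U).isOpen
  exact ⟨⟨(⟨W, hW⟩, ⟨U, hU⟩), fun y hy => (hWV hy).2⟩, hxW, fun y hy => (hWV hy).1⟩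

theorem isBasis_pairs : Opens.IsBasis (Set.range (fun p : Pairs f => p.W)) := by
  rw [Opens.isBasis_iff_nbhd]
  intro V x hx
  obtain ⟨p, hxp, hp⟩ := exists_pair f hx
  exact ⟨p.W, ⟨p, rfl⟩, hxp, hp⟩

variable {f}

/-- A derivation which is algebraically universal on all pairs of affine opens is universal. -/
theorem isUniversal_of_pairs {Ω : X.Modules} (d : Der f Ω)
    (h : ∀ p : Pairs f, IsAlgUniv (f.appLE p.U p.W p.le).hom (d.app p.W)) : IsUniversal d := by
  intro F D
  have hD : ∀ p : Pairs f, IsDer (f.appLE p.U p.W p.le).hom (D.app p.W) := fun p =>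
    ⟨fun a b => app_mul D _ a b, fun c => app_appLE D _ _ p.le c⟩
  have H : ∀ p : Pairs f, ∃ ψ : Γ(Ω, p.W) →ₗ[Γ(X, p.W)] Γ(F, p.W),
      ∀ b, ψ (d.app p.W b) = D.app p.W b := fun p => ((h p).lift _ _ (hD p)).exists
  choose ψ hψ using H
  have hspan : ∀ p : Pairs f, Submodule.span Γ(X, p.W) (Set.range (d.app p.W)) = ⊤ :=
    fun p => (h p).span_eq_top
  have hres : ∀ (p q : Pairs f) (hqp : q.W ≤ p.W) (s : Γ(Ω, p.W)),
      ψ q (Ω.presheaf.map (homOfLE hqp).op s) = F.presheaf.map (homOfLE hqp).op (ψ p s) := by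
    intro p q hqp s
    have hs : s ∈ Submodule.span Γ(X, p.W) (Set.range (d.app p.W)) := by
      rw [hspan p]; trivial
    induction hs using Submodule.span_induction with
    | mem x hx =>
      obtain ⟨b, rfl⟩ := hx
      rw [← app_map, hψ, hψ, app_map]
    | zero => rw [map_zero, map_zero, map_zero, map_zero]
    | add x y _ _ hx hy => rw [map_add, map_add, hx, hy, map_add, map_add]
    | smul a x _ hx =>
      rw [Scheme.Modules.map_smul, map_smul, hx, map_smul, Scheme.Modules.map_smul]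
  obtain ⟨β, hβ⟩ := exists_hom_of_basis' (B := fun p : Pairs f => p.W) (isBasis_pairs f) Ω F
    (fun p => ψ p) (fun p q hqp s => hres p q hqp s)
  have key : ∀ (U : X.Opens) (a : Γ(X, U)), β.app U (d.app U a) = D.app U a := by
    intro U a
    apply K583.DerAffine.eq_of_locally
    intro x hx
    obtain ⟨p, hxp, hp⟩ := exists_pair f hx
    refine ⟨p.W, hp, hxp, ?_⟩
    have e1 := appS_res β hp (d.app U a)
    rw [appS_eq_app, appS_eq_app, res_eq, res_eq] at e1
    rw [← e1, ← app_map, ← app_map]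
    exact (hβ p _).trans (hψ p _)
  refine ⟨β, ?_, ?_⟩
  · apply ext_of_app
    intro U a
    exact key U a
  · intro β' hβ'
    have key' : ∀ (U : X.Opens) (a : Γ(X, U)), β'.app U (d.app U a) = D.app U a := by
      intro U a
      rw [← postcomp_app, hβ']
    apply hom_ext_of_locally
    intro x U hx
    obtain ⟨p, hxp, hp⟩ := exists_pair f hx
    refine ⟨p.W, hp, hxp, fun s => ?_⟩
    have e : appS β' p.W = appS β p.W := by
      apply (h p).hom_ext
      intro b
      exact (key' p.W b).trans (key p.W b).symm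
    rw [e]

theorem d_eq_dSect (f : X ⟶ Y) [QuasiSeparated f] (W : X.Opens) (s : Γ(X, W)) :
    Groth.Agent.CurvesB.OmegaDer.d f W s = dSect f W s :=
  Groth.Agent.CurvesB.OmegaDer.d_eq f W s (idealLift f W s) (ι_idealLift f W s)

theorem isAlgUniv_dOmega (f : X ⟶ Y) [QuasiSeparated f] {U : Y.Opens} {W : X.Opens}
    (e : W ≤ f ⁻¹ᵁ U) (hU : IsAffineOpen U) (hW : IsAffineOpen W) :
    IsAlgUniv (f.appLE U W e).hom ((dOmega f).app W) := by
  let := Groth.Agent.CurvesB.OmegaDer.algX f e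
  let := Groth.Agent.CurvesB.OmegaDer.modO f e
  have := Groth.Agent.CurvesB.OmegaDer.isScalarTower f e
  have h1 := (isAlgUniv_iff_bijective_lift (Groth.Agent.CurvesB.OmegaDer.der f e)).2
    (Groth.Agent.CurvesB.OmegaDer.bijective_lift f e hU hW)
  have e1 : (Groth.Agent.CurvesB.OmegaDer.der f e).toLinearMap.toAddMonoidHom =
      (dOmega f).app W := by
    ext s
    refine (Groth.Agent.CurvesB.OmegaDer.der_apply f e s).trans ?_
    exact d_eq_dSect f W s
  rw [e1] at h1
  exact h1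

/-- The derivation `dOmega f` of a quasi-separated morphism is universal. -/
theorem isUniversal_dOmega (f : X ⟶ Y) [QuasiSeparated f] : IsUniversal (dOmega f) :=
  isUniversal_of_pairs _ fun p => isAlgUniv_dOmega f p.le p.hU p.hW

end K136.UnivOmega
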