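import Groth.Agent.Nrm16.K136.KaehlerProd
import Groth.Agent.OmegaSh.K583.UnivAffine
import Groth.Agent.CohqA.PullbackQCoh
import Groth.Agent.VarietyB.PullSec
import Groth.Agent.PerfB.ResolQC
import Groth.Agent.Sga67.Sec

/-!
# Differentials of a fibre product: `Ω_{X ×_S Y / S} = p^* Ω_X ⊕ q^* Ω_Y`
-/

set_option autoImplicit false
set_option linter.unusedVariables false
universe u
open CategoryTheory CategoryTheory.Limits AlgebraicGeometry TopologicalSpace Opposite OmegaSh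

namespace K136.DiffProd

open K583.AlgUniv K583.DerAffine K583.UnivAffine K136.KaehlerProd Groth.Agent.VarietyB

/-- A pushout square of commutative rings gives `B ⊗[A] C ≃ T`. -/
theorem bijective_of_isPushout {A B C T : Type u} [CommRing A] [CommRing B] [CommRing C]
    [CommRing T] [Algebra A B] [Algebra A C] [Algebra A T] (i₁ : B →ₐ[A] T) (i₂ : C →ₐ[A] T)
    (h : IsPushout (CommRingCat.ofHom (algebraMap A B)) (CommRingCat.ofHom (algebraMap A C))
      (CommRingCat.ofHom i₁.toRingHom) (CommRingCat.ofHom i₂.toRingHom)) :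
    Function.Bijective (Algebra.TensorProduct.productMap i₁ i₂) := by
  have h2 := CommRingCat.isPushout_tensorProduct A B C
  let e := h2.isoIsPushout _ _ h
  have he : (Algebra.TensorProduct.productMap i₁ i₂ : TensorProduct A B C →ₐ[A] T).toRingHom =
      e.hom.hom := by
    have : CommRingCat.ofHom (Algebra.TensorProduct.productMap i₁ i₂ :
        TensorProduct A B C →ₐ[A] T).toRingHom = e.hom := by
      apply h2.hom_ext
      · rw [h2.inl_isoIsPushout_hom]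
        ext b
        change Algebra.TensorProduct.productMap i₁ i₂ (b ⊗ₜ 1) = i₁ b
        simp
      · rw [h2.inr_isoIsPushout_hom]
        ext b
        change Algebra.TensorProduct.productMap i₁ i₂ (1 ⊗ₜ b) = i₂ b
        simp
    rw [← this]
    rfl
  have hb : Function.Bijective e.hom.hom := ConcreteCategory.bijective_of_isIso e.hom
  rw [← he] at hb
  exact hb

section pull

variable {X S Z : Scheme.{u}} {a : X ⟶ S} {h : Z ⟶ S} (p : Z ⟶ X) (wp : p ≫ a = h)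

variable {ΩX : X.Modules} {dX : Der a ΩX} {ΩZ : Z.Modules} {dZ : Der h ΩZ}

/-- The pulled-back differential on sections. -/
noncomputable def pd (dX : Der a ΩX) {U : X.Opens} {W : Z.Opens} (e : W ≤ p ⁻¹ᵁ U) :
    Γ(X, U) →+ Γ((Scheme.Modules.pullback p).obj ΩX, W) :=
  (PullSec.sec p ΩX e).comp (dX.app U)

theorem pd_mul {U : X.Opens} {W : Z.Opens} (e : W ≤ p ⁻¹ᵁ U) (s t : Γ(X, U)) :
    pd p dX e (s * t) = p.appLE U W e s • pd p dX e t + p.appLE U W e t • pd p dX e s := by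
  change PullSec.sec p ΩX e (dX.app U (s * t)) = _
  rw [app_mul, map_add, PullSec.sec_smul, PullSec.sec_smul]
  rfl

theorem pd_appLE {V : S.Opens} {U : X.Opens} {W : Z.Opens} (e : W ≤ p ⁻¹ᵁ U) (e' : U ≤ a ⁻¹ᵁ V)
    (c : Γ(S, V)) : pd p dX e (a.appLE V U e' c) = 0 := by
  change PullSec.sec p ΩX e (dX.app U _) = _
  rw [app_appLE, map_zero]

theorem span_pd (hX : IsUniversal dX) {V : S.Opens} {U : X.Opens} {W : Z.Opens} (e : W ≤ p ⁻¹ᵁ U)
    (e' : U ≤ a ⁻¹ᵁ V) (hV : IsAffineOpen V) (hU : IsAffineOpen U) (hW : IsAffineOpen W) :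
    Submodule.span Γ(Z, W) (Set.range (pd p dX e)) = ⊤ := by
  let j1 : Algebra Γ(X, U) Γ(Z, W) := (p.appLE U W e).hom.toAlgebra
  let j2 := PullSec.secModule p ΩX e
  have j3 : IsScalarTower Γ(X, U) Γ(Z, W) Γ((Scheme.Modules.pullback p).obj ΩX, W) :=
      ⟨fun a b c => by rw [Algebra.smul_def, mul_smul]; rfl⟩
  have hq : Coh.IsQCoh ΩX := isQuasicoherent_of_isUniversal hX
  have hbc := PullSec.isBaseChange_secₗ p ΩX e hq hU hW
  have hs := (isAlgUniv_app hX hU hV e').span_eq_top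
  rw [_root_.eq_top_iff]
  rintro x -
  refine hbc.inductionOn x (motive := fun x => x ∈ Submodule.span Γ(Z, W)
    (Set.range (pd p dX e))) (zero_mem _) ?_ ?_ ?_
  · intro m
    have hm : m ∈ Submodule.span Γ(X, U) (Set.range (dX.app U)) := by rw [hs]; trivial
    induction hm using Submodule.span_induction with
    | mem m hm =>
      obtain ⟨b, rfl⟩ := hm
      exact Submodule.subset_span ⟨b, rfl⟩
    | zero => rw [map_zero]; exact zero_mem _
    | add m n _ _ hm hn => rw [map_add]; exact add_mem hm hn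
    | smul r m _ hm =>
      rw [map_smul]
      exact Submodule.smul_mem _ (p.appLE U W e r) hm
  · intro s n hn
    exact Submodule.smul_mem _ s hn
  · intro a b ha hb
    exact add_mem ha hb

/-- The value of a compatible morphism on the pulled-back differentials. -/
theorem app_pd {c : (Scheme.Modules.pullback p).obj ΩX ⟶ ΩZ} (hc : IsDiffCompat p dX dZ c)
    {U : X.Opens} {W : Z.Opens} (e : W ≤ p ⁻¹ᵁ U) (s : Γ(X, U)) :
    c.app W (pd p dX e s) = dZ.app W (p.appLE U W e s) := by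
  have h1 := hc U s
  have h2 : pd p dX e s = ((Scheme.Modules.pullback p).obj ΩX).presheaf.map (homOfLE e).op
    (pullSect p ΩX U (dX.app U s)) := rfl
  have h3 : p.appLE U W e s = Z.presheaf.map (homOfLE e).op (p.app U s) := rfl
  rw [h2, h3, app_map, ← h1]
  exact congr($((Scheme.Modules.Hom.mapPresheaf c).naturality (homOfLE e).op) _)

end pull

/-- Affine charts on a fibre product. -/
theorem exists_chart {X Y S Z : Scheme.{u}} {a : X ⟶ S} {b : Y ⟶ S} {p : Z ⟶ X} {q : Z ⟶ Y}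
    (w : p ≫ a = q ≫ b) (z : Z) :
    ∃ (V : S.Opens) (U : X.Opens) (U' : Y.Opens) (_ : IsAffineOpen V) (_ : IsAffineOpen U)
      (_ : IsAffineOpen U') (_ : U ≤ a ⁻¹ᵁ V) (_ : U' ≤ b ⁻¹ᵁ V), p z ∈ U ∧ q z ∈ U' := by
  obtain ⟨_, ⟨V, hV, rfl⟩, hxV, -⟩ :=
    S.isBasis_affineOpens.exists_subset_of_mem_open (Set.mem_univ (a (p z))) isOpen_univ
  obtain ⟨_, ⟨U, hU, rfl⟩, hxU, hUV⟩ :=
    X.isBasis_affineOpens.exists_subset_of_mem_open (a := p z) (u := (a ⁻¹ᵁ V : X.Opens))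
      hxV (a ⁻¹ᵁ V).isOpen
  have hz : b (q z) ∈ V := by
    have : (q ≫ b) z ∈ V := by
      rw [← w]
      exact hxV
    exact this
  obtain ⟨_, ⟨U', hU', rfl⟩, hxU', hUV'⟩ :=
    Y.isBasis_affineOpens.exists_subset_of_mem_open (a := q z) (u := (b ⁻¹ᵁ V : Y.Opens))
      hz (b ⁻¹ᵁ V).isOpen
  exact ⟨V, U, U', hV, hU, hU', hUV, hUV', hxU, hxU'⟩

section biprod

open Groth.Agent.Sga67.Sec

variable {Z : Scheme.{u}} {M₁ M₂ N : Z.Modules}

theorem bijective_desc (c₁ : M₁ ⟶ N) (c₂ : M₂ ⟶ N) {W : Z.Opens}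
    (h : Function.Bijective (LinearMap.coprod (appS c₁ W) (appS c₂ W))) :
    Function.Bijective ((biprod.desc c₁ c₂).app W) := by
  have e0 : ∀ (x : Sec M₁ W) (y : Sec M₂ W), appS (biprod.desc c₁ c₂) W
      (appS biprod.inl W x + appS biprod.inr W y) = LinearMap.coprod (appS c₁ W) (appS c₂ W) (x, y) := by
    intro x y
    rw [map_add, ← appS_comp, ← appS_comp, biprod.inl_desc, biprod.inr_desc]
    rfl
  have e1 : ∀ s : Sec (M₁ ⊞ M₂) W, s = appS biprod.inl W (appS biprod.fst W s) +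
      appS biprod.inr W (appS biprod.snd W s) := by
    intro s
    rw [← appS_comp, ← appS_comp, ← appS_add, biprod.total, appS_id]
  have e2 : ∀ (x : Sec M₁ W) (y : Sec M₂ W), appS biprod.fst W
      (appS biprod.inl W x + appS biprod.inr W y) = x := by
    intro x y
    rw [map_add, ← appS_comp, ← appS_comp, biprod.inl_fst, biprod.inr_fst, appS_id, appS_zero,
      add_zero]
  have e3 : ∀ (x : Sec M₁ W) (y : Sec M₂ W), appS biprod.snd W
      (appS biprod.inl W x + appS biprod.inr W y) = y := by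
    intro x y
    rw [map_add, ← appS_comp, ← appS_comp, biprod.inl_snd, biprod.inr_snd, appS_id, appS_zero,
      zero_add]
  change Function.Bijective (appS (biprod.desc c₁ c₂) W)
  constructor
  · intro s t hst
    rw [e1 s, e1 t, e0, e0] at hst
    have h3 := h.1 hst
    rw [e1 s, e1 t, (Prod.mk.inj h3).1, (Prod.mk.inj h3).2]
  · intro n
    obtain ⟨⟨x, y⟩, hxy⟩ := h.2 n
    exact ⟨_, (e0 x y).trans hxy⟩

end biprod

theorem isIso_desc {X Y S Z : Scheme.{u}} (a : X ⟶ S) (b : Y ⟶ S)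
    (p : Z ⟶ X) (q : Z ⟶ Y) (h : Z ⟶ S) (wp : p ≫ a = h) (wq : q ≫ b = h)
    (hZ : IsPullback p q a b)
    (ΩX : X.Modules) (dX : Der a ΩX) (hX : IsUniversal dX)
    (ΩY : Y.Modules) (dY : Der b ΩY) (hY : IsUniversal dY)
    (ΩZ : Z.Modules) (dZ : Der h ΩZ) (hZu : IsUniversal dZ)
    (c₁ : (Scheme.Modules.pullback p).obj ΩX ⟶ ΩZ) (hc₁ : IsDiffCompat p dX dZ c₁)
    (c₂ : (Scheme.Modules.pullback q).obj ΩY ⟶ ΩZ) (hc₂ : IsDiffCompat q dY dZ c₂) :
    IsIso (biprod.desc c₁ c₂) := by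
  choose V U U' hV hU hU' e e' hp hq using exists_chart (p := p) (q := q) hZ.w
  have qX : Coh.IsQCoh ΩX := isQuasicoherent_of_isUniversal hX
  have qY : Coh.IsQCoh ΩY := isQuasicoherent_of_isUniversal hY
  have qZ : ΩZ.IsQuasicoherent := isQuasicoherent_of_isUniversal hZu
  have qB : ((Scheme.Modules.pullback p).obj ΩX ⊞
      (Scheme.Modules.pullback q).obj ΩY).IsQuasicoherent :=
    Groth.Agent.PerfB.ResolQC.isQCoh_biprod (PullSec.isQCoh_pullback p ΩX qX)
      (PullSec.isQCoh_pullback q ΩY qY)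
  refine Groth.Agent.CohqA.PullbackQCoh.isIso_of_bijective_affineCover _
    (fun z : Z => p ⁻¹ᵁ U z ⊓ q ⁻¹ᵁ U' z) ?_ ?_ ?_
  · exact top_le_iff.1 fun z _ => Opens.mem_iSup.2 ⟨z, ⟨hp z, hq z⟩⟩
  · intro z
    have : IsAffine _ := hU z
    have : IsAffine _ := hU' z
    have : IsAffine _ := hV z
    exact .of_isIso (Scheme.Hom.isPullback_resLE hZ (e' z) (e z)
      (UY := p ⁻¹ᵁ U z ⊓ q ⁻¹ᵁ U' z) rfl).isoPullback.hom
  · intro z
    have hW : IsAffineOpen (p ⁻¹ᵁ U z ⊓ q ⁻¹ᵁ U' z) := by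
      have : IsAffine _ := hU z
      have : IsAffine _ := hU' z
      have : IsAffine _ := hV z
      exact .of_isIso (Scheme.Hom.isPullback_resLE hZ (e' z) (e z)
        (UY := p ⁻¹ᵁ U z ⊓ q ⁻¹ᵁ U' z) rfl).isoPullback.hom
    let W := p ⁻¹ᵁ U z ⊓ q ⁻¹ᵁ U' z
    have l₁ : W ≤ p ⁻¹ᵁ U z := inf_le_left
    have l₂ : W ≤ q ⁻¹ᵁ U' z := inf_le_right
    have l₃ : W ≤ h ⁻¹ᵁ V z := by
      refine l₁.trans ((p.preimage_mono (e z)).trans ?_)
      rw [← Scheme.Hom.comp_preimage, wp]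
    have H : IsPushout (a.appLE (V z) (U z) (e z)) (b.appLE (V z) (U' z) (e' z))
        (p.appLE (U z) W l₁) (q.appLE (U' z) W l₂) :=
      (isIso_pushoutSection_iff hZ (US := V z) (UT := U' z) (UX := U z) (e' z) (e z)
        (UY := W) rfl).mp (isIso_pushoutSection_of_isAffineOpen _ (e' z) (e z) rfl (hV z) (hU' z)
          (hU z))
    let A₁ : Algebra Γ(S, V z) Γ(X, U z) := (a.appLE (V z) (U z) (e z)).hom.toAlgebra
    let A₂ : Algebra Γ(S, V z) Γ(Y, U' z) := (b.appLE (V z) (U' z) (e' z)).hom.toAlgebra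
    let A₃ : Algebra Γ(S, V z) Γ(Z, W) := (h.appLE (V z) W l₃).hom.toAlgebra
    have k₁ : ∀ c, p.appLE (U z) W l₁ (a.appLE (V z) (U z) (e z) c) = h.appLE (V z) W l₃ c := by
      intro c
      subst wp
      exact congr($(Scheme.Hom.appLE_comp_appLE p a (V z) (U z) W (e z) l₁) c)
    have k₂ : ∀ c, q.appLE (U' z) W l₂ (b.appLE (V z) (U' z) (e' z) c) = h.appLE (V z) W l₃ c := by
      intro c
      subst wq
      exact congr($(Scheme.Hom.appLE_comp_appLE q b (V z) (U' z) W (e' z) l₂) c)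
    let i₁ : Γ(X, U z) →ₐ[Γ(S, V z)] Γ(Z, W) := { (p.appLE (U z) W l₁).hom with commutes' := k₁ }
    let i₂ : Γ(Y, U' z) →ₐ[Γ(S, V z)] Γ(Z, W) := { (q.appLE (U' z) W l₂).hom with commutes' := k₂ }
    have hb := bijective_of_isPushout i₁ i₂ H
    have D₁ : DerAlong i₁ (pd p dX l₁) := ⟨pd_mul p l₁, pd_appLE p l₁ (e z)⟩
    have D₂ : DerAlong i₂ (pd q dY l₂) := ⟨pd_mul q l₂, pd_appLE q l₂ (e' z)⟩
    have s₁ := span_pd p hX l₁ (e z) (hV z) (hU z) hW
    have s₂ := span_pd q hY l₂ (e' z) (hV z) (hU' z) hW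
    have hu := isAlgUniv_app hZu hW (hV z) l₃
    have key := bijective_prod i₁ i₂ hb D₁ D₂ s₁ s₂ hu (Groth.Agent.Sga67.Sec.appS c₁ W)
      (fun s => app_pd p hc₁ l₁ s) (Groth.Agent.Sga67.Sec.appS c₂ W)
      (fun s => app_pd q hc₂ l₂ s)
    exact bijective_desc c₁ c₂ key

theorem isIso_coprod_desc {X Y S Z : Scheme.{u}} (a : X ⟶ S) (b : Y ⟶ S)
    (p : Z ⟶ X) (q : Z ⟶ Y) (h : Z ⟶ S) (wp : p ≫ a = h) (wq : q ≫ b = h)
    (hZ : IsPullback p q a b)
    (ΩX : X.Modules) (dX : Der a ΩX) (hX : IsUniversal dX)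
    (ΩY : Y.Modules) (dY : Der b ΩY) (hY : IsUniversal dY)
    (ΩZ : Z.Modules) (dZ : Der h ΩZ) (hZu : IsUniversal dZ)
    (c₁ : (Scheme.Modules.pullback p).obj ΩX ⟶ ΩZ) (hc₁ : IsDiffCompat p dX dZ c₁)
    (c₂ : (Scheme.Modules.pullback q).obj ΩY ⟶ ΩZ) (hc₂ : IsDiffCompat q dY dZ c₂) :
    IsIso (coprod.desc c₁ c₂) := by
  have h1 := isIso_desc a b p q h wp wq hZ ΩX dX hX ΩY dY hY ΩZ dZ hZu c₁ hc₁ c₂ hc₂
  have h2 : coprod.desc c₁ c₂ = (biprod.isoCoprod _ _).inv ≫ biprod.desc c₁ c₂ := by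
    apply coprod.hom_ext
    · simp [coprod.inl_desc]
    · simp [coprod.inr_desc]
  rw [h2]
  infer_instance

end K136.DiffProd
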