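import Groth.Prelude.Def_RegImm
import Groth.Agent.S5803
import Groth.Agent.S5802
import Groth.Agent.Divis.RegSpread
import Groth.Agent.Divis.RegImm
import Groth.Agent.RegImm.K559.Basic
import Mathlib.RingTheory.MvPolynomial.Localization
import Mathlib.RingTheory.MvPolynomial.Homogeneous

/-!
# Quasi-regular = regular on locally Noetherian schemes
-/

set_option autoImplicit false
set_option linter.unusedVariables false
universe u

open MvPolynomial CategoryTheory AlgebraicGeometry TopologicalSpace RingTheory.Sequence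

namespace K136.QuasiRegNoeth

attribute [local instance] MvPolynomial.algebraMvPolynomial

section ring

variable {A B : Type u} [CommRing A] [CommRing B] [Algebra A B]

/-- Localization preserves quasi-regularity. -/
theorem isQuasiRegular_localization (M : Submonoid A) [IsLocalization M B] {c : ℕ} (f : Fin c → A)
    (hf : CAlgX.IsQuasiRegular f) : CAlgX.IsQuasiRegular (fun i => algebraMap A B (f i)) := by
  intro n P hP hPe d
  have hrange : Set.range (fun i => algebraMap A B (f i)) = algebraMap A B '' Set.range f := by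
    rw [← Set.range_comp]; rfl
  rw [hrange, ← Ideal.map_span] at hPe ⊢
  obtain ⟨⟨P₀, s⟩, hP₀⟩ := IsLocalization.surj (M.map (C (σ := Fin c) (R := A))) P
  obtain ⟨s, t, ht, rfl⟩ := s
  change P * (MvPolynomial.map (algebraMap A B)) (C t) = MvPolynomial.map (algebraMap A B) P₀ at hP₀
  rw [MvPolynomial.map_C] at hP₀
  have hut : IsUnit (algebraMap A B t) := IsLocalization.map_units B ⟨t, ht⟩
  -- the homogeneous component
  let P₁ := homogeneousComponent n P₀
  have hP₁ : MvPolynomial.map (algebraMap A B) P₁ = C (algebraMap A B t) * P := by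
    ext e
    rw [coeff_map, coeff_homogeneousComponent, coeff_C_mul]
    split_ifs with h
    · rw [← coeff_map, ← hP₀, mul_comm P, coeff_C_mul]
    · have : coeff e P = 0 := by
        by_contra hne
        have h2 := hP hne
        apply h
        rw [← h2]
        simp [Finsupp.degree, Finsupp.weight_apply, Finsupp.sum]
      rw [this, map_zero, mul_zero]
  have hev : algebraMap A B (eval f P₁) =
      eval (fun i => algebraMap A B (f i)) P * algebraMap A B t := by
    have h1 : eval (fun i => algebraMap A B (f i)) (MvPolynomial.map (algebraMap A B) P₁) =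
        algebraMap A B (eval f P₁) := by
      rw [eval_map, eval₂_comp]
      rfl
    rw [← h1, hP₁, map_mul, eval_C, mul_comm]
  have hmem : algebraMap A B (eval f P₁) ∈ (Ideal.span (Set.range f) ^ (n + 1)).map (algebraMap A B) := by
    rw [hev, Ideal.map_pow]
    exact Ideal.mul_mem_right _ _ hPe
  obtain ⟨r, hr, hrP⟩ := (IsLocalization.algebraMap_mem_map_algebraMap_iff M B _ _).1 hmem
  have h3 := hf n (C r * P₁) ((homogeneousComponent_isHomogeneous n P₀).C_mul r)
    (by rw [map_mul, eval_C]; exact hrP) d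
  rw [coeff_C_mul] at h3
  have h4 : algebraMap A B (coeff d P₁) ∈ (Ideal.span (Set.range f)).map (algebraMap A B) :=
    (IsLocalization.algebraMap_mem_map_algebraMap_iff M B _ _).2 ⟨r, hr, h3⟩
  rw [← coeff_map, hP₁, coeff_C_mul] at h4
  exact (Ideal.unit_mul_mem_iff_mem _ hut).1 h4

/-- Quasi-regular implies regular near every prime containing the sequence, Noetherian case. -/
theorem exists_isWeaklyRegular [IsNoetherianRing A] {rs : List A}
    (h : CAlgX.IsQuasiRegular rs.get) (p : Ideal A) [p.IsPrime] (hp : Ideal.ofList rs ≤ p) :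
    ∃ g : A, g ∉ p ∧ ∀ (T : Type u) [CommRing T] [Algebra A T] [Module.Flat A T],
      IsUnit (algebraMap A T g) → IsWeaklyRegular T (rs.map (algebraMap A T)) := by
  have h1 := isQuasiRegular_localization (B := Localization.AtPrime p) p.primeCompl rs.get h
  have h2 := Groth.Agent.S5803.result (Localization.AtPrime p) rs.length
    (fun i => algebraMap A (Localization.AtPrime p) (rs.get i)) (fun i => by
      rw [Ring.jacobson_eq_sInf_isMaximal, Submodule.mem_sInf]
      intro m hm
      rw [IsLocalRing.eq_maximalIdeal hm]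
      have : rs.get i ∈ p := hp (Ideal.subset_span (List.get_mem rs i))
      exact (IsLocalization.AtPrime.to_map_mem_maximal_iff _ p _).2 this) h1
  have h3 : List.ofFn (fun i => algebraMap A (Localization.AtPrime p) (rs.get i)) =
      rs.map (algebraMap A (Localization.AtPrime p)) := by
    have : List.map (algebraMap A (Localization.AtPrime p)) (List.ofFn rs.get) = _ := List.map_ofFn
    rw [List.ofFn_get] at this
    exact this.symm
  rw [h3] at h2
  obtain ⟨g, hg, H⟩ := Groth.Agent.Divis.RegSpread.exists_isWeaklyRegular_of_atPrime'.{u, u, u} p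
    (Localization.AtPrime p) rs h2
  exact ⟨g, hg, fun T _ _ _ => H T⟩

theorem isQuasiRegular_get_of_isWeaklyRegular {rs : List A} (h : IsWeaklyRegular A rs) :
    CAlgX.IsQuasiRegular rs.get := by
  apply Groth.Agent.S5802.result
  rwa [List.ofFn_get]

end ring

section scheme

variable {X Y : Scheme.{u}}

/-- Near a point of the zero locus of a quasi-regular sequence the sequence is regular. -/
theorem exists_affine_isWeaklyRegular [IsLocallyNoetherian X] {U : X.Opens} (hU : IsAffineOpen U)
    {x : X} (hx : x ∈ U) {rs : List Γ(X, U)} (h : CAlgX.IsQuasiRegular rs.get)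
    (hx0 : ∀ r ∈ rs, x ∉ X.basicOpen r) :
    ∃ (V : X.Opens) (hVU : V ≤ U), IsAffineOpen V ∧ x ∈ V ∧
      IsWeaklyRegular Γ(X, V) (rs.map (X.presheaf.map (homOfLE hVU).op).hom) := by
  have : IsNoetherianRing Γ(X, U) := IsLocallyNoetherian.component_noetherian ⟨U, hU⟩
  let P := hU.primeIdealOf ⟨x, hx⟩
  have hmem : ∀ g : Γ(X, U), x ∈ X.basicOpen g ↔ g ∉ P.asIdeal := by
    intro g
    let : Algebra Γ(X, U) (X.presheaf.stalk x) := X.presheaf.algebra_section_stalk ⟨x, hx⟩
    have := hU.isLocalization_stalk ⟨x, hx⟩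
    rw [X.mem_basicOpen g x hx]
    exact IsLocalization.AtPrime.isUnit_to_map_iff (X.presheaf.stalk x) P.asIdeal g
  have hP : Ideal.ofList rs ≤ P.asIdeal := by
    rw [Ideal.ofList, Ideal.span_le]
    intro r hr
    by_contra hn
    exact hx0 r hr ((hmem r).2 hn)
  obtain ⟨g, hg, H⟩ := exists_isWeaklyRegular h P.asIdeal hP
  have hxg : x ∈ X.basicOpen g := (hmem g).2 hg
  refine ⟨X.basicOpen g, X.basicOpen_le g, hU.basicOpen g, hxg, ?_⟩
  let : Algebra Γ(X, U) Γ(X, X.basicOpen g) :=
    (X.presheaf.map (homOfLE (X.basicOpen_le g)).op).hom.toAlgebra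
  have hfl : Module.Flat Γ(X, U) Γ(X, X.basicOpen g) :=
    K559.Basic.flat_res hU (hU.basicOpen g) (X.basicOpen_le g)
  refine H Γ(X, X.basicOpen g) ?_
  exact RingedSpace.isUnit_res_basicOpen X.toRingedSpace g

theorem isRegularIdeal_regular_of_quasi [IsLocallyNoetherian X] (I : X.IdealSheafData)
    (h : RegImm.IsRegularIdeal RegImm.Kind.quasi I) :
    RegImm.IsRegularIdeal RegImm.Kind.regular I := by
  intro x hx
  obtain ⟨U, hxU, rs, hrs, hI⟩ := h x hx
  obtain ⟨V, hVU, hV, hxV, hr⟩ := exists_affine_isWeaklyRegular U.2 hxU hrs (fun r hr => by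
    have h1 := (Scheme.IdealSheafData.mem_support_iff_of_mem hxU).mp hx
    have h2 : r ∈ I.ideal U := by
      rw [hI]
      exact Ideal.subset_span hr
    exact (Scheme.mem_zeroLocus_iff X _ x).mp h1 r h2)
  have hIV : I.ideal ⟨V, hV⟩ = Ideal.ofList (rs.map (X.presheaf.map (homOfLE hVU).op).hom) := by
    rw [← Ideal.map_ofList, ← hI]
    exact (I.map_ideal (U := ⟨V, hV⟩) (V := U) hVU).symm
  refine ⟨⟨V, hV⟩, hxV, _, ?_, hIV⟩
  refine (Groth.Agent.Divis.RegImm.isRegular_iff_ne_top _).2 ⟨hr, ?_⟩
  rw [← hIV]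
  exact Groth.Agent.Divis.RegImm.ideal_ne_top_of_mem_support hx (U := ⟨V, hV⟩) hxV

theorem isRegularImmersion_regular_of_quasi [IsLocallyNoetherian X] (j : Y ⟶ X)
    (h : RegImm.IsRegularImmersion RegImm.Kind.quasi j) :
    RegImm.IsRegularImmersion RegImm.Kind.regular j := by
  refine ⟨h.1, fun y => ?_⟩
  obtain ⟨U, hyU, hc, rs, hrs, hker⟩ := h.2 y
  obtain ⟨V, hVU, hV, hxV, hr⟩ := exists_affine_isWeaklyRegular U.2 hyU hrs (fun r hr hyr => by
    have h2 : r ∈ RingHom.ker (j.app U.1).hom := by
      rw [hker]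
      exact Ideal.subset_span hr
    have h3 : y ∈ j ⁻¹ᵁ X.basicOpen r := hyr
    rw [Scheme.preimage_basicOpen] at h3
    have h4 : (j.app U.1) r = 0 := h2
    rw [h4, Scheme.basicOpen_zero] at h3
    exact h3)
  have hk : RingHom.ker (j.app V).hom =
      Ideal.ofList (rs.map (X.presheaf.map (homOfLE hVU).op).hom) := by
    rw [← Ideal.map_ofList, ← hker]
    exact K559.Basic.ker_app_of_le U.2 hV hVU hc
  refine ⟨⟨V, hV⟩, hxV, K559.Basic.isClosedImmersion_restrict_of_le hVU hc, _, ?_, hk⟩
  refine (Groth.Agent.Divis.RegImm.isRegular_iff_ne_top _).2 ⟨hr, ?_⟩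
  rw [← hk]
  intro htop
  have h1 : (j.app V) 1 = 0 := by
    have : (1 : Γ(X, V)) ∈ RingHom.ker (j.app V).hom := by rw [htop]; trivial
    exact this
  rw [map_one] at h1
  have h2 : y ∈ j ⁻¹ᵁ V := hxV
  have h3 : y ∈ Y.basicOpen (1 : Γ(Y, j ⁻¹ᵁ V)) := by
    rw [Scheme.basicOpen_of_isUnit _ isUnit_one]
    exact h2
  rw [h1, Scheme.basicOpen_zero] at h3
  exact h3

theorem isRegularImmersion_quasi_of_regular (j : Y ⟶ X)
    (h : RegImm.IsRegularImmersion RegImm.Kind.regular j) :
    RegImm.IsRegularImmersion RegImm.Kind.quasi j := by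
  refine ⟨h.1, fun y => ?_⟩
  obtain ⟨U, hyU, hc, rs, hrs, hker⟩ := h.2 y
  exact ⟨U, hyU, hc, rs, isQuasiRegular_get_of_isWeaklyRegular
    ((Groth.Agent.Divis.RegImm.isRegular_iff_ne_top _).1 hrs).1, hker⟩

end scheme

end K136.QuasiRegNoeth
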