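import Groth.Agent.S3815
import Groth.Agent.S3805
import Mathlib.RingTheory.IsTensorProduct

/-!
# Ring-level principal parts through an arbitrary model

`A → B`, a ring `T` with two `A`-algebra maps `a₁, a₂ : B → T` such that `B ⊗_A B → T` is surjective with
kernel `I^(n+1)`, a `B`-module `M` and a base change `can : M → M_T` along `a₂`.  Then `M_T` is a model of
`PP16.PM n A B M`.
-/

set_option autoImplicit false
set_option linter.unusedVariables false
universe u

open scoped TensorProduct

namespace K136.AlgPP

section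

variable {n : ℕ} {A B T : Type u} [CommRing A] [CommRing B] [CommRing T] [Algebra A B]
  [Algebra A T] [Algebra B T] [IsScalarTower A B T] (a₁ : B →ₐ[A] T)

/-- The map `B ⊗_A B → T`. -/
noncomputable abbrev prodMap : B ⊗[A] B →ₐ[A] T :=
  Algebra.TensorProduct.productMap a₁ (IsScalarTower.toAlgHom A B T)

variable (n) in
/-- `T` is a model of the ring of principal parts of order `n`, the left structure being `a₁`, the right
structure `algebraMap B T`. -/
structure IsPPModel : Prop where
  surj : Function.Surjective (prodMap a₁)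
  ker : ∀ x, prodMap a₁ x = 0 ↔ x ∈ KaehlerDifferential.ideal A B ^ (n + 1)

variable {a₁} (h : IsPPModel n a₁)

/-- The comparison ring isomorphism. -/
noncomputable def IsPPModel.eP (h : IsPPModel n a₁) : PP16.P n A B ≃+* T :=
  (Ideal.quotEquivOfEq (by
    ext x
    exact (h.ker x).symm :
      KaehlerDifferential.ideal A B ^ (n + 1) = RingHom.ker (prodMap a₁).toRingHom)).trans
    (RingHom.quotientKerEquivOfSurjective h.surj)

theorem IsPPModel.eP_mk (x : B ⊗[A] B) : h.eP (Ideal.Quotient.mk _ x) = prodMap a₁ x := rfl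

theorem IsPPModel.eP_algebraMap (b : B) : h.eP (algebraMap B (PP16.P n A B) b) = a₁ b := by
  have : algebraMap B (PP16.P n A B) b = Ideal.Quotient.mk _ (b ⊗ₜ[A] (1 : B)) := rfl
  rw [this, h.eP_mk, prodMap, Algebra.TensorProduct.productMap_apply_tmul, map_one, mul_one]

theorem IsPPModel.eP_dn (b : B) : h.eP (PP16.dn n A B b) = algebraMap B T b := by
  have : PP16.dn n A B b = Ideal.Quotient.mk _ ((1 : B) ⊗ₜ[A] b) := rfl
  rw [this, h.eP_mk, prodMap, Algebra.TensorProduct.productMap_apply_tmul, map_one, one_mul]
  rfl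

/-- The comparison as a linear equivalence for the right structures. -/
noncomputable def IsPPModel.ePr (h : IsPPModel n a₁) : PP16.Pr n A B ≃ₗ[B] T :=
  { h.eP with
    map_smul' := fun b p => by
      change h.eP ((PP16.dn n A B b : PP16.P n A B) * (show PP16.P n A B from p)) =
        b • h.eP (show PP16.P n A B from p)
      rw [map_mul, h.eP_dn, Algebra.smul_def] }

variable {M MT : Type u} [AddCommGroup M] [Module B M] [AddCommGroup MT] [Module T MT] [Module B MT]
  [IsScalarTower B T MT] {can : M →ₗ[B] MT}

/-- The comparison of modules of principal parts. -/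
noncomputable def IsPPModel.eM (h : IsPPModel n a₁) (hc : IsBaseChange T can) :
    PP16.PM n A B M ≃+ MT :=
  ((TensorProduct.congr h.ePr (LinearEquiv.refl B M)).toAddEquiv).trans hc.equiv.toAddEquiv

variable (hc : IsBaseChange T can)

theorem IsPPModel.eM_tmul (p : PP16.Pr n A B) (m : M) :
    h.eM hc (p ⊗ₜ m) = h.eP p • can m := by
  change hc.equiv (h.ePr p ⊗ₜ m) = _
  rw [hc.equiv_tmul]
  rfl

theorem IsPPModel.eM_smul (b : B) (t : PP16.PM n A B M) :
    h.eM hc (algebraMap B (PP16.P n A B) b • t) = a₁ b • h.eM hc t := by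
  induction t using TensorProduct.induction_on with
  | zero => rw [smul_zero, map_zero, smul_zero]
  | add x y hx hy => rw [smul_add, map_add, hx, hy, map_add, smul_add]
  | tmul p m =>
    rw [TensorProduct.smul_tmul', h.eM_tmul, h.eM_tmul, smul_smul]
    congr 1
    exact (map_mul h.eP _ _).trans (congrArg (· * h.eP p) (h.eP_algebraMap b))

theorem IsPPModel.eM_dM (m : M) : h.eM hc (PP16.dM n A B M m) = can m := by
  change h.eM hc ((1 : PP16.Pr n A B) ⊗ₜ m) = can m
  rw [h.eM_tmul]
  have : h.eP (1 : PP16.P n A B) = 1 := map_one _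
  exact (congrArg (· • can m) this).trans (one_smul _ _)

variable {Q : Type u} [AddCommGroup Q] [Module B Q]

include h hc in
/-- The model is generated by the universal operator. -/
theorem IsPPModel.hom_ext {u v : MT →+ Q} (hu : ∀ (b : B) (t : MT), u (a₁ b • t) = b • u t)
    (hv : ∀ (b : B) (t : MT), v (a₁ b • t) = b • v t) (huv : ∀ m, u (can m) = v (can m)) : u = v := by
  have key : ∀ (x : B ⊗[A] B) (m : M), u (prodMap a₁ x • can m) = v (prodMap a₁ x • can m) := by
    intro x m
    induction x using TensorProduct.induction_on with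
    | zero => simp
    | add x y hx hy => rw [map_add, add_smul, map_add, map_add, hx, hy]
    | tmul b b' =>
      rw [prodMap, Algebra.TensorProduct.productMap_apply_tmul, mul_smul, hu, hv]
      have : (IsScalarTower.toAlgHom A B T) b' • can m = can (b' • m) := by
        rw [map_smul]
        exact algebraMap_smul T b' (can m)
      rw [this, huv]
  have H : ∀ t : MT, ∀ s : T, u (s • t) = v (s • t) := by
    intro t
    refine hc.inductionOn t (motive := fun t => ∀ s : T, u (s • t) = v (s • t)) ?_ ?_ ?_ ?_
    · intro s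
      rw [smul_zero, map_zero, map_zero]
    · intro m s
      obtain ⟨x, rfl⟩ := h.surj s
      exact key x m
    · intro r n hn s
      rw [smul_smul]
      exact hn _
    · intro a b ha hb s
      rw [smul_add, map_add, map_add, ha, hb]
  ext t
  have := H t 1
  rwa [one_smul] at this

variable [Module A M] [IsScalarTower A B M] [Module A Q] [IsScalarTower A B Q]

include h hc in
/-- Factorisation of differential operators through the model. -/
theorem IsPPModel.exists_factor (D : M →ₗ[A] Q) (hD : Diff16.IsDiffOpLE A B M Q n D) :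
    ∃ u : MT →+ Q, (∀ (b : B) (t : MT), u (a₁ b • t) = b • u t) ∧ ∀ m, u (can m) = D m := by
  obtain ⟨u, ⟨hu1, hu2⟩, -⟩ := (Groth.Agent.S3815.result n A B M Q D).1 hD
  refine ⟨u.comp (h.eM hc).symm.toAddMonoidHom, fun b t => ?_, fun m => ?_⟩
  · obtain ⟨t, rfl⟩ := (h.eM hc).surjective t
    change u ((h.eM hc).symm (a₁ b • h.eM hc t)) = b • u ((h.eM hc).symm (h.eM hc t))
    rw [← h.eM_smul hc, AddEquiv.symm_apply_apply, AddEquiv.symm_apply_apply, hu1]
  · change u ((h.eM hc).symm (can m)) = D m
    rw [← h.eM_dM hc, AddEquiv.symm_apply_apply, hu2]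

include h hc in
/-- A map which factors through the model is a differential operator. -/
theorem IsPPModel.isDiffOpLE (D : M →ₗ[A] Q) (u : MT →+ Q)
    (hu : ∀ (b : B) (t : MT), u (a₁ b • t) = b • u t) (hD : ∀ m, u (can m) = D m) :
    Diff16.IsDiffOpLE A B M Q n D := by
  rw [Groth.Agent.S3815.result n A B M Q D]
  refine ⟨u.comp (h.eM hc).toAddMonoidHom, ⟨fun b t => ?_, fun m => ?_⟩, ?_⟩
  · change u (h.eM hc _) = b • u (h.eM hc t)
    rw [h.eM_smul hc, hu]
  · change u (h.eM hc _) = D m
    rw [h.eM_dM hc, hD]
  · rintro v ⟨hv1, hv2⟩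
    have : v.comp (h.eM hc).symm.toAddMonoidHom = u := by
      apply h.hom_ext hc _ hu
      · intro m
        change v ((h.eM hc).symm (can m)) = u (can m)
        rw [← h.eM_dM hc, AddEquiv.symm_apply_apply, hv2, h.eM_dM hc, hD]
      · intro b t
        obtain ⟨t, rfl⟩ := (h.eM hc).surjective t
        change v ((h.eM hc).symm (a₁ b • h.eM hc t)) = b • v ((h.eM hc).symm (h.eM hc t))
        rw [← h.eM_smul hc, AddEquiv.symm_apply_apply, AddEquiv.symm_apply_apply, hv1]
    rw [← this]
    ext t
    change v t = v ((h.eM hc).symm (h.eM hc t))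
    rw [AddEquiv.symm_apply_apply]

end

end K136.AlgPP
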