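import Groth.Agent.Nrm16.K136.AlgPP
import Groth.Agent.S3807
import Groth.Agent.S3808
import Mathlib.RingTheory.Localization.AtPrime.Basic
import Mathlib.RingTheory.KrullDimension.Basic

/-!
# Localization of models of the ring of principal parts
-/

set_option autoImplicit false
set_option linter.unusedVariables false
universe u

open scoped TensorProduct

namespace K136.AlgPP

section mult

variable {n : ℕ} {A B T : Type u} [CommRing A] [CommRing B] [CommRing T] [Algebra A B]
  [Algebra A T] [Algebra B T] [IsScalarTower A B T] {a₁ : B →ₐ[A] T}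

theorem tmul_sub_mem (w : B ⊗[A] B) :
    w - (Algebra.TensorProduct.lmul' A (S := B) w) ⊗ₜ[A] (1 : B) ∈ KaehlerDifferential.ideal A B := by
  change Algebra.TensorProduct.lmul' A _ = 0
  rw [map_sub, Algebra.TensorProduct.lmul'_apply_tmul, mul_one, sub_self]

/-- Elements of a model are `a₁ c` up to a nilpotent. -/
theorem IsPPModel.exists_sub_pow_eq_zero (h : IsPPModel n a₁) (d : T) :
    ∃ c : B, (a₁ c - d) ^ (n + 1) = 0 := by
  obtain ⟨w, rfl⟩ := h.surj d
  refine ⟨Algebra.TensorProduct.lmul' A (S := B) w, ?_⟩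
  have h1 : a₁ (Algebra.TensorProduct.lmul' A (S := B) w) - prodMap a₁ w =
      prodMap a₁ (-(w - (Algebra.TensorProduct.lmul' A (S := B) w) ⊗ₜ[A] (1 : B))) := by
    rw [map_neg, map_sub, prodMap, Algebra.TensorProduct.productMap_apply_tmul, map_one, mul_one]
    ring
  rw [h1, ← map_pow, h.ker]
  exact Ideal.pow_mem_pow (neg_mem (tmul_sub_mem w)) _

/-- `a₂ - a₁` is nilpotent. -/
theorem IsPPModel.sub_pow_eq_zero (h : IsPPModel n a₁) (b : B) :
    (algebraMap B T b - a₁ b) ^ (n + 1) = 0 := by
  have h1 : algebraMap B T b - a₁ b = prodMap a₁ ((1 : B) ⊗ₜ b - b ⊗ₜ (1 : B)) := by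
    rw [map_sub, prodMap, Algebra.TensorProduct.productMap_apply_tmul,
      Algebra.TensorProduct.productMap_apply_tmul, map_one, map_one, mul_one, one_mul]
    rfl
  rw [h1, ← map_pow, h.ker]
  exact Ideal.pow_mem_pow (KaehlerDifferential.one_smul_sub_smul_one_mem_ideal A b) _

end mult

section loc

variable {n : ℕ} {R C D A B T : Type u} [CommRing R] [CommRing C] [CommRing D] [CommRing A]
  [CommRing B] [CommRing T] [Algebra R C] [Algebra R D] [Algebra C D] [IsScalarTower R C D]
  {a₁ : C →ₐ[R] D} (h : IsPPModel n a₁) (q : Ideal D) [q.IsPrime]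
  [Algebra D T] [IsLocalization.AtPrime T q]
  [Algebra R A] [Algebra C B] [Algebra A B] [Algebra R B] [IsScalarTower R A B] [IsScalarTower R C B]
  [Algebra A T] [Algebra B T] [IsScalarTower A B T] {b₁ : B →ₐ[A] T}

include h in
/-- Localization of models. -/
theorem IsPPModel.localization (MA : Submonoid R) [IsLocalization MA A] (MB : Submonoid C)
    [IsLocalization MB B] (hMB : ∀ c, c ∈ MB ↔ a₁ c ∉ q) (hM : ∀ r ∈ MA, algebraMap R C r ∈ MB)
    (hb₁ : ∀ c, b₁ (algebraMap C B c) = algebraMap D T (a₁ c))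
    (hb₂ : ∀ c, algebraMap B T (algebraMap C B c) = algebraMap D T (algebraMap C D c)) :
    IsPPModel n b₁ := by
  let L : PP16.P n R C →+* PP16.P n A B := (PP16.map n R C A B).toRingHom
  -- `P n A B` is a localization of `P n R C`
  let i1 : Algebra (PP16.P n R C) (PP16.P n A B) := L.toAlgebra
  have hL : IsLocalization (MB.map (algebraMap C (PP16.P n R C))) (PP16.P n A B) := by
    have h7 := Groth.Agent.S3807.result n R C B MB
    let _ := PP16.mapAlgebra n R C R B
    have h8 := Groth.Agent.S3808.result n R C A B MA MB hM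
    refine IsLocalization.isLocalization_of_algEquiv (MB.map (algebraMap C (PP16.P n R C)))
      (AlgEquiv.ofRingEquiv (f := RingEquiv.ofBijective (PP16.map n R B A B).toRingHom h8) ?_)
    intro x
    obtain ⟨x, rfl⟩ := Ideal.Quotient.mk_surjective x
    change PP16.map n R B A B (PP16.map n R C R B (Ideal.Quotient.mk _ x)) =
      PP16.map n R C A B (Ideal.Quotient.mk _ x)
    rw [PP16.map_mk, PP16.map_mk, PP16.map_mk]
    congr 1
    induction x using TensorProduct.induction_on with
    | zero => simp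
    | add x y hx hy => simp only [map_add, hx, hy]
    | tmul a b => rw [PP16.tensorMap_tmul, PP16.tensorMap_tmul, PP16.tensorMap_tmul]; rfl
  -- transport to `D`
  let i2 : Algebra D (PP16.P n A B) := (L.comp h.eP.symm.toRingHom).toAlgebra
  have hL' : IsLocalization ((MB.map (algebraMap C (PP16.P n R C))).map h.eP) (PP16.P n A B) :=
    IsLocalization.isLocalization_of_base_ringEquiv _ _ h.eP
  have hL'' : IsLocalization q.primeCompl (PP16.P n A B) := by
    refine IsLocalization.of_le_of_exists_dvd ((MB.map (algebraMap C (PP16.P n R C))).map h.eP) _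
      ?_ ?_
    · rintro _ ⟨_, ⟨c, hc, rfl⟩, rfl⟩
      have : h.eP (algebraMap C (PP16.P n R C) c) = a₁ c := h.eP_algebraMap c
      change h.eP (algebraMap C (PP16.P n R C) c) ∉ q
      rw [this]
      exact (hMB c).1 hc
    · intro d hd
      obtain ⟨c, hc⟩ := h.exists_sub_pow_eq_zero d
      have hk : a₁ c - d ∈ q := by
        apply Ideal.IsPrime.mem_of_pow_mem (inferInstance : q.IsPrime) (n + 1)
        rw [hc]
        exact q.zero_mem
      have hc' : c ∈ MB := by
        rw [hMB]
        intro hmem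
        apply hd
        have := q.sub_mem hmem hk
        rwa [sub_sub_cancel] at this
      refine ⟨a₁ (c ^ (n + 1)), ⟨algebraMap C (PP16.P n R C) (c ^ (n + 1)),
        ⟨c ^ (n + 1), MB.pow_mem hc' _, rfl⟩, h.eP_algebraMap _⟩, ?_⟩
      have h1 := sub_dvd_pow_sub_pow (a₁ c) (a₁ c - d) (n + 1)
      rw [hc, sub_zero, sub_sub_cancel] at h1
      rwa [map_pow]
  let ε : PP16.P n A B ≃ₐ[D] T := IsLocalization.algEquiv q.primeCompl (PP16.P n A B) T
  have hε₁ : ∀ c : C, ε (Ideal.Quotient.mk _ ((algebraMap C B c) ⊗ₜ[A] (1 : B))) =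
      algebraMap D T (a₁ c) := by
    intro c
    rw [← ε.commutes]
    congr 1
    change _ = L (h.eP.symm (a₁ c))
    rw [← h.eP_algebraMap, RingEquiv.symm_apply_apply]
    exact (PP16.map_algebraMap n R C A B c).symm
  have hε₂ : ∀ c : C, ε (Ideal.Quotient.mk _ ((1 : B) ⊗ₜ[A] (algebraMap C B c))) =
      algebraMap D T (algebraMap C D c) := by
    intro c
    rw [← ε.commutes]
    congr 1
    change _ = L (h.eP.symm (algebraMap C D c))
    rw [← h.eP_dn, RingEquiv.symm_apply_apply]
    exact (PP16.map_dn n R C A B c).symm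
  have e1 : ((ε : PP16.P n A B →+* T).comp (Ideal.Quotient.mk _)).comp
      (Algebra.TensorProduct.includeLeftRingHom (R := A) (A := B) (B := B)) = b₁.toRingHom := by
    apply IsLocalization.ringHom_ext MB
    ext c
    exact (hε₁ c).trans (hb₁ c).symm
  have e2 : ((ε : PP16.P n A B →+* T).comp (Ideal.Quotient.mk _)).comp
      (Algebra.TensorProduct.includeRight (R := A) (A := B) (B := B)).toRingHom =
      algebraMap B T := by
    apply IsLocalization.ringHom_ext MB
    ext c
    exact (hε₂ c).trans (hb₂ c).symm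
  have e3 : ∀ x : B ⊗[A] B, ε (Ideal.Quotient.mk _ x) = prodMap b₁ x := by
    intro x
    induction x using TensorProduct.induction_on with
    | zero => simp
    | add x y hx hy => rw [map_add, map_add, map_add, hx, hy]
    | tmul a b =>
      have h1 : ε (Ideal.Quotient.mk _ (a ⊗ₜ[A] (1 : B))) = b₁ a := RingHom.congr_fun e1 a
      have h2 : ε (Ideal.Quotient.mk _ ((1 : B) ⊗ₜ[A] b)) = algebraMap B T b :=
        RingHom.congr_fun e2 b
      have h3 : a ⊗ₜ[A] b = (a ⊗ₜ[A] (1 : B)) * ((1 : B) ⊗ₜ[A] b) := by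
        rw [Algebra.TensorProduct.tmul_mul_tmul, mul_one, one_mul]
      rw [prodMap, Algebra.TensorProduct.productMap_apply_tmul, h3, map_mul, map_mul, h1, h2]
      rfl
  constructor
  · intro t
    obtain ⟨p, rfl⟩ := ε.surjective t
    obtain ⟨x, rfl⟩ := Ideal.Quotient.mk_surjective p
    exact ⟨x, (e3 x).symm⟩
  · intro x
    rw [← e3, EmbeddingLike.map_eq_zero_iff, Ideal.Quotient.eq_zero_iff_mem]

end loc

end K136.AlgPP
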