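import Groth.Agent.CohqA.PullbackQCoh
import Groth.Prelude.Def_Omega4

/-!
# Morphisms out of pulled back modules: isomorphism and epimorphism criteria on affine opens
-/

set_option autoImplicit false
universe u

open CategoryTheory AlgebraicGeometry Limits Opposite TopologicalSpace AlgebraicGeometry.Scheme.Modules

namespace K136.IsoBC

open Groth.Agent.CohqA.PullbackUniv Groth.Agent.CohqA.BaseChangeMod Groth.Agent.CohqA.PullbackAffine
  Groth.Agent.CohqA.PullbackSections Groth.Agent.CohqA.PullbackQCoh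

variable {X Y : Scheme.{u}} (h : Y ⟶ X)

/-- Pull a section back and restrict. -/
noncomputable def psec (M : X.Modules) {U : X.Opens} {V : Y.Opens} (e : V ≤ h ⁻¹ᵁ U) :
    Γ(M, U) →+ Γ((Scheme.Modules.pullback h).obj M, V) :=
  (((Scheme.Modules.pullback h).obj M).presheaf.map (homOfLE e).op).hom.comp (OmegaSh.pullSect h M U).hom

theorem psec_apply (M : X.Modules) {U : X.Opens} {V : Y.Opens} (e : V ≤ h ⁻¹ᵁ U) (m : Γ(M, U)) :
    psec h M e m = ((Scheme.Modules.pullback h).obj M).presheaf.map (homOfLE e).op (OmegaSh.pullSect h M U m) :=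
  rfl

theorem isBC_psec (M : X.Modules) [M.IsQuasicoherent] {U : X.Opens}
    (hU : IsAffineOpen U) {V : Y.Opens} (hV : IsAffineOpen V) (e : V ≤ h ⁻¹ᵁ U) :
    IsBC (h.appLE U V e).hom (psec h M e) :=
  isBC_pbSec h M hU hV e

variable {h}

/-- A morphism out of a pulled back module which is a base change on enough affine opens is an
isomorphism. -/
theorem isIso_of_isBC {M : X.Modules} {N : Y.Modules} [M.IsQuasicoherent] [N.IsQuasicoherent]
    (φ : (Scheme.Modules.pullback h).obj M ⟶ N)
    (H : ∀ y : Y, ∃ (U : X.Opens) (V : Y.Opens) (_ : IsAffineOpen U) (_ : IsAffineOpen V)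
      (e : V ≤ h ⁻¹ᵁ U), y ∈ V ∧ IsBC (h.appLE U V e).hom ((φ.app V).hom.comp (psec h M e))) : IsIso φ := by
  choose U V hU hV e hy hbc using H
  refine isIso_of_bijective_affineCover φ V ?_ hV fun y => ?_
  · exact top_le_iff.1 fun y _ => Opens.mem_iSup.2 ⟨y, hy y⟩
  · exact (isBC_psec h M (hU y) (hV y) (e y)).bijective_of_isBC (hbc y)
      { (φ.app (V y)).hom with map_smul' := fun r x => Hom.app_smul φ r x } (fun x => rfl)

end K136.IsoBC
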