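import Groth.Agent.Nrm16.K136.PChart
import Groth.Agent.Nrm16.K136.IsoBC
import Groth.Agent.Nrm16.K136.DiffProd
import Groth.Agent.Ega1.QcqsPush
import Groth.Agent.S3806
import Groth.Agent.Fdesc.StructMod

/-!
# Base change of the sheaves of principal parts
-/

set_option autoImplicit false
set_option linter.style.haveILetI false
universe u

open CategoryTheory CategoryTheory.Limits AlgebraicGeometry TopologicalSpace Opposite PrinPart
open scoped TensorProduct

namespace K136.BaseP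

open Groth.Agent
open Groth.Agent.CohqA.BaseChangeMod K136.IsoBC

theorem isQCoh_PMod {X S : Scheme.{u}} (f : X ⟶ S) (n : ℕ) (F : X.Modules) (hF : Coh.IsQCoh F) :
    Coh.IsQCoh (PMod f n F) :=
  Ega1.QcqsPush.isQCoh_pushforward (pr1 f n) _ (VarietyB.PullSec.isQCoh_pullback (pr2 f n) F hF)

/-- Restricting `d^n`. -/
theorem dn_map {X S : Scheme.{u}} (f : X ⟶ S) (n : ℕ) {U V : X.Opens} (h : V ≤ U) (b : Γ(X, U)) :
    dn f n V (X.presheaf.map (homOfLE h).op b) = (P f n).presheaf.map (homOfLE h).op (dn f n U b) :=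
  (congrArg (dP f n (Coh.structureModule X) V) (OmegaSh.strSect_map (W := U) h b)).trans
    (dP_map f n _ h _)

section alg

variable (n : ℕ) {A B A' B' : Type u} [CommRing A] [CommRing B] [Algebra A B]
  [CommRing A'] [CommRing B'] [Algebra A' B'] [Algebra A A'] [Algebra B B'] [Algebra A B']
  [IsScalarTower A A' B'] [IsScalarTower A B B']

theorem map_smul' (b : B) (p : PP16.P n A B) :
    PP16.map n A B A' B' (b • p) = algebraMap B B' b • PP16.map n A B A' B' p := by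
  rw [Algebra.smul_def, map_mul, PP16.map_algebraMap, Algebra.smul_def]

theorem isBC_map [Algebra.IsPushout A B A' B'] :
    IsBC (algebraMap B B') (PP16.map n A B A' B').toAddMonoidHom := by
  letI := PP16.mapAlgebra n A B A' B'
  haveI := PP16.isScalarTower_mapAlgebra n A B A' B'
  have h1 : Algebra.IsPushout B (PP16.P n A B) B' (PP16.P n A' B') := S3806.result n A B A' B'
  have h2 : Algebra.IsPushout B B' (PP16.P n A B) (PP16.P n A' B') := h1.symm
  exact (isBC_iff_isBaseChange (IsScalarTower.toAlgHom B (PP16.P n A B) (PP16.P n A' B')).toLinearMap).2 h2.out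

theorem span_dn : Submodule.span B (Set.range (PP16.dn n A B)) = ⊤ := by
  rw [_root_.eq_top_iff]
  rintro p -
  obtain ⟨x, rfl⟩ := Ideal.Quotient.mk_surjective p
  induction x using TensorProduct.induction_on with
  | zero => rw [map_zero]; exact zero_mem _
  | add x y hx hy => rw [map_add]; exact add_mem hx hy
  | tmul b c =>
    have h1 : (Ideal.Quotient.mk (KaehlerDifferential.ideal A B ^ (n + 1)) (b ⊗ₜ c) : PP16.P n A B) =
        b • PP16.dn n A B c := by
      rw [Algebra.smul_def]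
      change _ = Ideal.Quotient.mk _ (b ⊗ₜ[A] (1 : B)) * Ideal.Quotient.mk _ ((1 : B) ⊗ₜ[A] c)
      rw [← map_mul, Algebra.TensorProduct.tmul_mul_tmul, mul_one, one_mul]
    rw [h1]
    exact Submodule.smul_mem _ _ (Submodule.subset_span ⟨c, rfl⟩)

end alg

section chart

variable {X S X' S' : Scheme.{u}} {f : X ⟶ S} {g : S' ⟶ S} {h : X' ⟶ X} {f' : X' ⟶ S'}
  (hsq : IsPullback h f' f g)
  {V : S.Opens} {U : X.Opens} {V' : S'.Opens} (e : U ≤ f ⁻¹ᵁ V) (e' : V' ≤ g ⁻¹ᵁ V)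

include hsq e e' in
theorem isAffineOpen_W (hV : IsAffineOpen V) (hU : IsAffineOpen U) (hV' : IsAffineOpen V') :
    IsAffineOpen (h ⁻¹ᵁ U ⊓ f' ⁻¹ᵁ V') := by
  have : IsAffine _ := hU
  have : IsAffine _ := hV
  have : IsAffine _ := hV'
  exact .of_isIso (Scheme.Hom.isPullback_resLE hsq e' e (UY := h ⁻¹ᵁ U ⊓ f' ⁻¹ᵁ V') rfl).isoPullback.hom

include hsq in
theorem isPushout_W (hV : IsAffineOpen V) (hU : IsAffineOpen U) (hV' : IsAffineOpen V')
    {W : X'.Opens} (hW : W = h ⁻¹ᵁ U ⊓ f' ⁻¹ᵁ V') (l₁ : W ≤ h ⁻¹ᵁ U) (l₂ : W ≤ f' ⁻¹ᵁ V') :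
    IsPushout (f.appLE V U e) (g.appLE V V' e') (h.appLE U W l₁) (f'.appLE V' W l₂) :=
  (isIso_pushoutSection_iff hsq (US := V) (UT := V') (UX := U) e' e (UY := W) hW).mp
    (isIso_pushoutSection_of_isAffineOpen _ e' e hW hV hV' hU)

end chart

theorem isIso_pMap {X S X' S' : Scheme.{u}} (f : X ⟶ S) (g : S' ⟶ S)
    (h : X' ⟶ X) (f' : X' ⟶ S') (hsq : IsPullback h f' f g) (n : ℕ)
    (φ : (Scheme.Modules.pullback h).obj (P f n) ⟶ P f' n)
    (hφ : IsPMap f f' h n φ) : IsIso φ := by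
  have q1 : (P f n).IsQuasicoherent := isQCoh_PMod f n _ (Fdesc.StructMod.isQCoh_structureModule X)
  have q2 : (P f' n).IsQuasicoherent := isQCoh_PMod f' n _ (Fdesc.StructMod.isQCoh_structureModule X')
  apply isIso_of_isBC
  intro y
  obtain ⟨V, U, V', hV, hU, hV', e, e', hp, hq⟩ := K136.DiffProd.exists_chart (p := h) (q := f') hsq.w y
  have hW := isAffineOpen_W hsq e e' hV hU hV'
  set W := h ⁻¹ᵁ U ⊓ f' ⁻¹ᵁ V' with hWdef
  have l₁ : W ≤ h ⁻¹ᵁ U := inf_le_left
  have l₂ : W ≤ f' ⁻¹ᵁ V' := inf_le_right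
  refine ⟨U, W, hU, hW, l₁, ⟨hp, hq⟩, ?_⟩
  have hpo := isPushout_W hsq e e' hV hU hV' hWdef l₁ l₂
  letI A₁ : Algebra Γ(S, V) Γ(X, U) := (f.appLE V U e).hom.toAlgebra
  letI A₂ : Algebra Γ(S, V) Γ(S', V') := (g.appLE V V' e').hom.toAlgebra
  letI A₃ : Algebra Γ(X, U) Γ(X', W) := (h.appLE U W l₁).hom.toAlgebra
  letI A₄ : Algebra Γ(S', V') Γ(X', W) := (f'.appLE V' W l₂).hom.toAlgebra
  letI A₅ : Algebra Γ(S, V) Γ(X', W) := ((h.appLE U W l₁).hom.comp (f.appLE V U e).hom).toAlgebra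
  haveI : IsScalarTower Γ(S, V) Γ(X, U) Γ(X', W) := IsScalarTower.of_algebraMap_eq fun _ => rfl
  haveI : IsScalarTower Γ(S, V) Γ(S', V') Γ(X', W) := IsScalarTower.of_algebraMap_eq fun a =>
    congr($(hpo.w) a)
  haveI : Algebra.IsPushout Γ(S, V) Γ(X, U) Γ(S', V') Γ(X', W) :=
    CommRingCat.isPushout_iff_isPushout.1 hpo
  obtain ⟨E, hE, hEd⟩ := PChart.exists_equiv e n hV hU (fun _ => rfl)
  obtain ⟨E', hE', hEd'⟩ := PChart.exists_equiv l₂ n hV' hW (fun _ => rfl)
  have key : ∀ p, φ.app W (psec h (P f n) l₁ (E p)) =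
      E' (PP16.map n Γ(S, V) Γ(X, U) Γ(S', V') Γ(X', W) p) := by
    intro p
    have hp : p ∈ Submodule.span Γ(X, U) (Set.range (PP16.dn n Γ(S, V) Γ(X, U))) := by
      rw [span_dn]
      trivial
    induction hp using Submodule.span_induction with
    | zero => simp
    | add x y _ _ hx hy => rw [map_add, map_add, map_add, hx, hy, map_add, map_add]
    | smul b x _ hx =>
      rw [hE, (isBC_psec h (P f n) hU hW l₁).map_smul, Scheme.Modules.Hom.app_smul, hx, map_smul', hE']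
      rfl
    | mem x hx =>
      obtain ⟨b, rfl⟩ := hx
      rw [hEd, PP16.map_dn, hEd', psec_apply, K137.Basic.app_res, hφ U b, ← dn_map]
      rfl
  have h1 : IsBC (h.appLE U W l₁).hom (PP16.map n Γ(S, V) Γ(X, U) Γ(S', V') Γ(X', W)).toAddMonoidHom :=
    isBC_map n
  have h2 : IsBC (h.appLE U W l₁).hom
      (E'.toAddMonoidHom.comp (PP16.map n Γ(S, V) Γ(X, U) Γ(S', V') Γ(X', W)).toAddMonoidHom) :=
    h1.of_equiv { E' with map_smul' := hE' } (fun x => rfl)
  have h3 : IsBC (RingHom.id Γ(X, U)) E.toAddMonoidHom :=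
    IsBC.of_bijective _ Function.bijective_id _ E.bijective hE
  have h4 := (h3.comp_iff (ψ := (h.appLE U W l₁).hom) (g := (φ.app W).hom.comp (psec h (P f n) l₁)) (by
    intro r x
    change φ.app W (psec h (P f n) l₁ (r • x)) = h.appLE U W l₁ r • φ.app W (psec h (P f n) l₁ x)
    rw [(isBC_psec h (P f n) hU hW l₁).map_smul, Scheme.Modules.Hom.app_smul])).1
  apply h4
  rw [RingHom.comp_id]
  convert h2 using 1
  ext p
  exact key p

end K136.BaseP
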