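import Groth.Agent.Nrm16.K136.StalkPP

/-!
# Differential operators on sheaves of modules

* `hom_ext_dP`: `P^n(F)` is generated by the image of `d^n`;
* `isDiffOpLE_of_stalks`: an operator which factors on all stalks is a differential operator;
* `isDiffOpLE_iff_stalk`: in terms of the stalks;
* `isDiffOpLE_iff_alt`: through the alternating sums.
-/

set_option autoImplicit false
set_option linter.unusedVariables false
set_option linter.style.haveILetI false
universe u

open CategoryTheory CategoryTheory.Limits AlgebraicGeometry TopologicalSpace Opposite PrinPart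
open scoped TensorProduct

namespace K136.DiffOp

open Groth.Agent
open Groth.Agent.Fdesc.Skyscraper
open K136.AlgPP K136.StalkModel K136.StalkPP K136.StalkGlue

variable {X S : Scheme.{u}} (f : X ⟶ S) (n : ℕ) {F G : X.Modules}

/-- `P^n(F)` is generated by the image of the universal operator. -/
theorem hom_ext_dP {a b : PMod f n F ⟶ G}
    (h : ∀ (U : X.Opens) (t : Γ(F, U)), a.app U (dP f n F U t) = b.app U (dP f n F U t)) : a = b := by
  apply hom_ext_stalk
  intro x m
  have : stalkMap a x = stalkMap b x := stalk_hom_ext f n F x fun t => by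
    obtain ⟨U, hU, t, rfl⟩ := TopCat.Presheaf.exists_germ_eq F.presheaf t
    rw [dStalk_germ, stalkMap_germ, stalkMap_germ, h]
  rw [this]

/-- The map on stalks of a homomorphism of abelian sheaves. -/
noncomputable def DS (D : F.presheaf ⟶ G.presheaf) (x : X) : F.presheaf.stalk x →+ G.presheaf.stalk x :=
  ((TopCat.Presheaf.stalkFunctor Ab.{u} x).map D).hom

theorem DS_germ (D : F.presheaf ⟶ G.presheaf) (x : X) (U : X.Opens) (hU : x ∈ U) (t : Γ(F, U)) :
    DS D x (F.presheaf.germ U x hU t) = G.presheaf.germ U x hU (D.app (op U) t) :=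
  TopCat.Presheaf.stalkFunctor_map_germ_apply U x hU D t

theorem app_res (D : F.presheaf ⟶ G.presheaf) {U V : X.Opens} (h : V ≤ U) (t : Γ(F, U)) :
    D.app (op V) (F.presheaf.map (homOfLE h).op t) = G.presheaf.map (homOfLE h).op (D.app (op U) t) :=
  congr($(D.naturality (homOfLE h).op) t)

/-- Sections of `P^n(F)` are locally combinations of values of the universal operator. -/
theorem exists_local_sum (U : X.Opens) (m : Γ(PMod f n F, U)) (x : X) (hx : x ∈ U) :
    ∃ (V : X.Opens) (hV : V ≤ U) (_ : x ∈ V) (k : ℕ) (a : Fin k → Γ(X, V)) (t : Fin k → Γ(F, V)),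
      (PMod f n F).presheaf.map (homOfLE hV).op m = ∑ i, a i • dP f n F V (t i) := by
  have key : ∀ y : (PMod f n F).presheaf.stalk x, ∃ (V : X.Opens) (hxV : x ∈ V) (k : ℕ)
      (a : Fin k → Γ(X, V)) (t : Fin k → Γ(F, V)),
      y = (PMod f n F).presheaf.germ V x hxV (∑ i, a i • dP f n F V (t i)) := by
    intro y
    have hy : y ∈ Submodule.span (X.presheaf.stalk x) (Set.range (dStalk f n F x)) := by
      rw [span_dStalk]
      trivial
    induction hy using Submodule.span_induction with
    | zero => exact ⟨⊤, trivial, 0, Fin.elim0, Fin.elim0, by simp⟩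
    | mem y hy =>
      obtain ⟨t, rfl⟩ := hy
      obtain ⟨V, hV, t, rfl⟩ := TopCat.Presheaf.exists_germ_eq F.presheaf t
      refine ⟨V, hV, 1, fun _ => 1, fun _ => t, ?_⟩
      rw [dStalk_germ]
      simp
    | add y y' _ _ hy hy' =>
      obtain ⟨V, hV, k, a, t, rfl⟩ := hy
      obtain ⟨V', hV', k', a', t', rfl⟩ := hy'
      refine ⟨V ⊓ V', ⟨hV, hV'⟩, k + k',
        Fin.append (fun i => X.presheaf.map (homOfLE inf_le_left).op (a i))
          (fun i => X.presheaf.map (homOfLE inf_le_right).op (a' i)),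
        Fin.append (fun i => F.presheaf.map (homOfLE inf_le_left).op (t i))
          (fun i => F.presheaf.map (homOfLE inf_le_right).op (t' i)), ?_⟩
      rw [Fin.sum_univ_add, map_add]
      congr 1
      · rw [← germ_res (PMod f n F) inf_le_left x ⟨hV, hV'⟩, map_sum]
        congr 1
        refine Finset.sum_congr rfl fun i _ => ?_
        rw [Fin.append_left, Fin.append_left, dP_map]
        exact Scheme.Modules.map_smul _ _ _ _
      · rw [← germ_res (PMod f n F) inf_le_right x ⟨hV, hV'⟩, map_sum]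
        congr 1
        refine Finset.sum_congr rfl fun i _ => ?_
        rw [Fin.append_right, Fin.append_right, dP_map]
        exact Scheme.Modules.map_smul _ _ _ _
    | smul r y _ hy =>
      obtain ⟨V, hV, k, a, t, rfl⟩ := hy
      obtain ⟨W, hW, r, rfl⟩ := TopCat.Presheaf.exists_germ_eq X.presheaf r
      refine ⟨V ⊓ W, ⟨hV, hW⟩, k,
        (fun i => X.presheaf.map (homOfLE inf_le_right).op r * X.presheaf.map (homOfLE inf_le_left).op (a i)),
        (fun i => F.presheaf.map (homOfLE inf_le_left).op (t i)), ?_⟩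
      rw [← germ_res (PMod f n F) (inf_le_left : V ⊓ W ≤ V) x ⟨hV, hW⟩,
        ← TopCat.Presheaf.germ_res_apply X.presheaf (homOfLE (inf_le_right : V ⊓ W ≤ W)) x ⟨hV, hW⟩ r]
      rw [← germ_smul, map_sum, Finset.smul_sum]
      congr 1
      refine Finset.sum_congr rfl fun i _ => ?_
      rw [mul_smul, dP_map]
      congr 1
      exact Scheme.Modules.map_smul _ _ _ _
  obtain ⟨V, hV, k, a, t, e⟩ := key ((PMod f n F).presheaf.germ U x hx m)
  obtain ⟨W, hW1, hW2, hxW, e⟩ := germ_eq (PMod f n F) x hx hV _ _ e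
  refine ⟨W, hW1, hxW, k, fun i => X.presheaf.map (homOfLE hW2).op (a i),
    fun i => F.presheaf.map (homOfLE hW2).op (t i), ?_⟩
  rw [e, map_sum]
  refine Finset.sum_congr rfl fun i _ => ?_
  rw [dP_map]
  exact Scheme.Modules.map_smul _ _ _ _

theorem presheaf_map_homOfLE_id (M : X.Modules) {U : X.Opens} (h : U ≤ U) (m : Γ(M, U)) :
    M.presheaf.map (homOfLE h).op m = m := by
  have : (homOfLE h).op = 𝟙 (op U) := rfl
  rw [this, CategoryTheory.Functor.map_id]
  rfl

/-- An operator which factors on all stalks is a differential operator. -/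
theorem isDiffOpLE_of_stalks (D : F.presheaf ⟶ G.presheaf)
    (H : ∀ x : X, ∃ u : (PMod f n F).presheaf.stalk x →ₗ[X.presheaf.stalk x] G.presheaf.stalk x,
      ∀ m, u (dStalk f n F x m) = DS D x m) : IsDiffOpLE f F G n D := by
  choose u hu using H
  obtain ⟨φ, hφ⟩ := exists_hom_of_stalks u (by
    intro U m x hx
    obtain ⟨V, hV, hxV, k, a, t, e⟩ := exists_local_sum f n U m x hx
    refine ⟨V, hV, hxV, ∑ i, a i • D.app (op V) (t i), fun y hy => ?_⟩
    rw [← germ_res _ hV y hy, e, map_sum, map_sum, map_sum]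
    refine Finset.sum_congr rfl fun i _ => ?_
    rw [germ_smul, map_smul, germ_smul, ← dStalk_germ, hu, DS_germ])
  refine ⟨φ, fun U t => ?_⟩
  apply section_ext
  intro x hx
  rw [← stalkMap_germ, hφ, ← dStalk_germ, hu, DS_germ]

/-- A differential operator is linear over the functions of `S` on stalks. -/
theorem DS_eq {D : F.presheaf ⟶ G.presheaf} {u : PMod f n F ⟶ G}
    (hu : ∀ (U : X.Opens) (t : Γ(F, U)), D.app (op U) t = u.app U (dP f n F U t)) (x : X)
    (m : F.presheaf.stalk x) : DS D x m = stalkMap u x (dStalk f n F x m) := by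
  obtain ⟨U, hU, t, rfl⟩ := TopCat.Presheaf.exists_germ_eq F.presheaf m
  rw [DS_germ, hu, dStalk_germ, stalkMap_germ]

theorem DS_smul {D : F.presheaf ⟶ G.presheaf} (hD : IsDiffOpLE f F G n D) (x : X)
    (r : S.presheaf.stalk (f x)) (m : F.presheaf.stalk x) :
    DS D x (f.stalkMap x r • m) = f.stalkMap x r • DS D x m := by
  obtain ⟨u, hu⟩ := hD
  rw [DS_eq f n hu, DS_eq f n hu, dStalk_smul, map_smul]

/-- A differential operator is linear over the functions of `S`. -/
theorem app_smul {D : F.presheaf ⟶ G.presheaf} (hD : IsDiffOpLE f F G n D)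
    (V : S.Opens) (s : Γ(S, V)) (U : X.Opens) (hU : U ≤ f ⁻¹ᵁ V) (t : Γ(F, U)) :
    D.app (op U) (X.presheaf.map (homOfLE hU).op (f.app V s) • t) =
      X.presheaf.map (homOfLE hU).op (f.app V s) • D.app (op U) t := by
  apply section_ext
  intro x hx
  have h1 : X.presheaf.germ U x hx (X.presheaf.map (homOfLE hU).op (f.app V s)) =
      f.stalkMap x (S.presheaf.germ V (f x) (hU hx) s) := by
    rw [Scheme.Hom.germ_stalkMap_apply]
    exact TopCat.Presheaf.germ_res_apply X.presheaf (homOfLE hU) x hx (f.app V s)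
  rw [← DS_germ, germ_smul, germ_smul, h1, DS_smul f n hD, DS_germ]

/-- The linear map on stalks. -/
noncomputable def DL (D : F.presheaf ⟶ G.presheaf) (x : X)
    (hlin : ∀ (r : S.presheaf.stalk (f x)) (m : F.presheaf.stalk x),
      DS D x (f.stalkMap x r • m) = f.stalkMap x r • DS D x m) :
    letI := FlatMod.moduleStalkOver f F x
    letI := FlatMod.moduleStalkOver f G x
    F.presheaf.stalk x →ₗ[S.presheaf.stalk (f x)] G.presheaf.stalk x :=
  letI := FlatMod.moduleStalkOver f F x
  letI := FlatMod.moduleStalkOver f G x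
  { DS D x with map_smul' := hlin }

/-- Differential operators in terms of stalks. -/
theorem isDiffOpLE_iff_stalk (D : F.presheaf ⟶ G.presheaf) : IsDiffOpLE f F G n D ↔
    ∀ x : X, ∃ (hlin : ∀ (r : S.presheaf.stalk (f x)) (m : F.presheaf.stalk x),
      DS D x (f.stalkMap x r • m) = f.stalkMap x r • DS D x m),
      letI := algS f x
      letI := FlatMod.moduleStalkOver f F x
      letI := FlatMod.moduleStalkOver f G x
      haveI := Fdesc.PullbackStalk.isScalarTower f F x
      haveI := Fdesc.PullbackStalk.isScalarTower f G x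
      Diff16.IsDiffOpLE (S.presheaf.stalk (f x)) (X.presheaf.stalk x) (F.presheaf.stalk x)
        (G.presheaf.stalk x) n (DL f D x hlin) := by
  constructor
  · intro hD x
    refine ⟨DS_smul f n hD x, ?_⟩
    obtain ⟨u, hu⟩ := hD
    letI := algS f x
    letI := FlatMod.moduleStalkOver f F x
    letI := FlatMod.moduleStalkOver f G x
    haveI := Fdesc.PullbackStalk.isScalarTower f F x
    haveI := Fdesc.PullbackStalk.isScalarTower f G x
    exact isDiffOpLE_stalk f n F x (fun _ => rfl) _ (stalkMap u x) fun m => (DS_eq f n hu x m).symm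
  · intro H
    apply isDiffOpLE_of_stalks
    intro x
    obtain ⟨hlin, hD⟩ := H x
    letI := algS f x
    letI := FlatMod.moduleStalkOver f F x
    letI := FlatMod.moduleStalkOver f G x
    haveI := Fdesc.PullbackStalk.isScalarTower f F x
    haveI := Fdesc.PullbackStalk.isScalarTower f G x
    exact exists_stalk_factor f n F x (fun _ => rfl) _ hD

section Alt

theorem exists_germ_fin (x : X) : ∀ (k : ℕ) (b : Fin k → X.presheaf.stalk x),
    ∃ (U : X.Opens) (hU : x ∈ U) (a : Fin k → Γ(X, U)), ∀ i, X.presheaf.germ U x hU (a i) = b i := by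
  intro k
  induction k with
  | zero => exact fun b => ⟨⊤, trivial, Fin.elim0, fun i => i.elim0⟩
  | succ k ih =>
    intro b
    obtain ⟨U, hU, a, ha⟩ := ih (fun i => b i.succ)
    obtain ⟨V, hV, c, hc⟩ := TopCat.Presheaf.exists_germ_eq X.presheaf (b 0)
    refine ⟨U ⊓ V, ⟨hU, hV⟩, Fin.cons (X.presheaf.map (homOfLE inf_le_right).op c)
      (fun i => X.presheaf.map (homOfLE inf_le_left).op (a i)), fun i => ?_⟩
    refine Fin.cases ?_ (fun i => ?_) i
    · rw [Fin.cons_zero, ← hc]
      exact TopCat.Presheaf.germ_res_apply X.presheaf (homOfLE inf_le_right) x ⟨hU, hV⟩ c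
    · rw [Fin.cons_succ, ← ha i]
      exact TopCat.Presheaf.germ_res_apply X.presheaf (homOfLE inf_le_left) x ⟨hU, hV⟩ (a i)

theorem germ_alt (D : F.presheaf ⟶ G.presheaf) (k : ℕ) (U : X.Opens) (x : X) (hU : x ∈ U)
    (a : Fin k → Γ(X, U)) (t : Γ(F, U)) :
    G.presheaf.germ U x hU (∑ H : Finset (Fin k),
      ((-1 : ℤ) ^ H.card) • ((∏ i ∈ H, a i) • D.app (op U) ((∏ i ∈ Hᶜ, a i) • t))) =
    ∑ H : Finset (Fin k), ((-1 : ℤ) ^ H.card) • ((∏ i ∈ H, X.presheaf.germ U x hU (a i)) •
      DS D x ((∏ i ∈ Hᶜ, X.presheaf.germ U x hU (a i)) • F.presheaf.germ U x hU t)) := by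
  rw [map_sum]
  refine Finset.sum_congr rfl fun H _ => ?_
  rw [map_zsmul, germ_smul, ← DS_germ, germ_smul, map_prod, map_prod]

/-- Differential operators through alternating sums. -/
theorem isDiffOpLE_iff_alt (D : F.presheaf ⟶ G.presheaf) : IsDiffOpLE f F G n D ↔
    (∀ (V : S.Opens) (s : Γ(S, V)) (U : X.Opens) (hU : U ≤ f ⁻¹ᵁ V) (t : Γ(F, U)),
      D.app (op U) (X.presheaf.map (homOfLE hU).op (f.app V s) • t) =
        X.presheaf.map (homOfLE hU).op (f.app V s) • D.app (op U) t) ∧
    ∀ (U : X.Opens) (a : Fin (n + 1) → Γ(X, U)) (t : Γ(F, U)),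
      (∑ H : Finset (Fin (n + 1)),
        ((-1 : ℤ) ^ H.card) • ((∏ i ∈ H, a i) • D.app (op U) ((∏ i ∈ Hᶜ, a i) • t))) = 0 := by
  constructor
  · intro hD
    refine ⟨fun V s U hU t => app_smul f n hD V s U hU t, fun U a t => ?_⟩
    apply section_ext
    intro x hx
    rw [germ_alt, map_zero]
    obtain ⟨hlin, hx'⟩ := (isDiffOpLE_iff_stalk f n D).1 hD x
    letI := algS f x
    letI := FlatMod.moduleStalkOver f F x
    letI := FlatMod.moduleStalkOver f G x
    haveI := Fdesc.PullbackStalk.isScalarTower f F x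
    haveI := Fdesc.PullbackStalk.isScalarTower f G x
    exact (Groth.Agent.S2798.result _ _ _ _ n _).1 hx' (fun i => X.presheaf.germ U x hx (a i))
      (F.presheaf.germ U x hx t)
  · rintro ⟨hlin, halt⟩
    rw [isDiffOpLE_iff_stalk]
    intro x
    have hl : ∀ (r : S.presheaf.stalk (f x)) (m : F.presheaf.stalk x),
        DS D x (f.stalkMap x r • m) = f.stalkMap x r • DS D x m := by
      intro r m
      obtain ⟨V, hV, s, rfl⟩ := TopCat.Presheaf.exists_germ_eq S.presheaf r
      obtain ⟨U, hU, t, rfl⟩ := TopCat.Presheaf.exists_germ_eq F.presheaf m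
      have hxV : x ∈ f ⁻¹ᵁ V := hV
      have h1 : f.stalkMap x (S.presheaf.germ V (f x) hV s) = X.presheaf.germ (U ⊓ f ⁻¹ᵁ V) x ⟨hU, hxV⟩
          (X.presheaf.map (homOfLE inf_le_right).op (f.app V s)) := by
        rw [Scheme.Hom.germ_stalkMap_apply]
        exact (TopCat.Presheaf.germ_res_apply X.presheaf (homOfLE inf_le_right) x ⟨hU, hxV⟩
          (f.app V s)).symm
      rw [h1, ← germ_res F (inf_le_left : U ⊓ f ⁻¹ᵁ V ≤ U) x ⟨hU, hxV⟩ t, ← germ_smul, DS_germ, hlin,
        DS_germ, ← germ_smul]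
    refine ⟨hl, ?_⟩
    letI := algS f x
    letI := FlatMod.moduleStalkOver f F x
    letI := FlatMod.moduleStalkOver f G x
    haveI := Fdesc.PullbackStalk.isScalarTower f F x
    haveI := Fdesc.PullbackStalk.isScalarTower f G x
    refine (Groth.Agent.S2798.result _ _ _ _ n _).2 fun b t => ?_
    obtain ⟨U, hU, a, ha⟩ := exists_germ_fin x (n + 1) b
    obtain ⟨V, hV, t, rfl⟩ := TopCat.Presheaf.exists_germ_eq F.presheaf t
    have h1 := germ_alt D (n + 1) (U ⊓ V) x ⟨hU, hV⟩
      (fun i => X.presheaf.map (homOfLE inf_le_left).op (a i)) (F.presheaf.map (homOfLE inf_le_right).op t)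
    rw [halt, map_zero] at h1
    have h2 : ∀ i, X.presheaf.germ (U ⊓ V) x ⟨hU, hV⟩ (X.presheaf.map (homOfLE inf_le_left).op (a i)) = b i :=
      fun i => (TopCat.Presheaf.germ_res_apply X.presheaf (homOfLE inf_le_left) x ⟨hU, hV⟩ (a i)).trans (ha i)
    simp only [h2, germ_res F (inf_le_right : U ⊓ V ≤ V) x ⟨hU, hV⟩ t] at h1
    exact h1.symm

end Alt

end K136.DiffOp
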