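import Groth.Agent.Nrm16.K136.DiffOp
import Groth.Agent.Nrm16.K137.Basic

/-!
# Differential operators on sheaves of modules: composition, order zero and one

* `comp`, `mono`, `iff_zero`;
* `isDiffOpLE_dPHom`: the universal operator is a differential operator of order `≤ n`;
* `exists_add_der`: operators of order `≤ 1` on `O_X` as the sum of a linear map and a derivation.
-/

set_option autoImplicit false
set_option linter.unusedVariables false
set_option linter.style.haveILetI false
universe u

open CategoryTheory CategoryTheory.Limits AlgebraicGeometry TopologicalSpace Opposite PrinPart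
open scoped TensorProduct

namespace K136.DiffOpThm

open Groth.Agent
open Groth.Agent.Fdesc.Skyscraper
open K136.AlgPP K136.StalkModel K136.StalkPP K136.StalkGlue K136.DiffOp

variable {X S : Scheme.{u}} (f : X ⟶ S)

theorem diff16_mono_succ {A B M N : Type u} [CommRing A] [CommRing B] [Algebra A B]
    [AddCommGroup M] [Module A M] [Module B M] [IsScalarTower A B M]
    [AddCommGroup N] [Module A N] [Module B N] [IsScalarTower A B N] :
    ∀ (n : ℕ) (D : M →ₗ[A] N), Diff16.IsDiffOpLE A B M N n D → Diff16.IsDiffOpLE A B M N (n + 1) D := by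
  intro n
  induction n with
  | zero =>
    intro D hD b b' m
    have h : ∀ m, Diff16.commutator A B M N D b m = 0 := fun m => by
      change D (b • m) - b • D m = 0
      rw [hD b m, sub_self]
    rw [h, h, smul_zero]
  | succ n ih =>
    intro D hD b
    exact ih _ (hD b)

theorem diff16_mono {A B M N : Type u} [CommRing A] [CommRing B] [Algebra A B]
    [AddCommGroup M] [Module A M] [Module B M] [IsScalarTower A B M]
    [AddCommGroup N] [Module A N] [Module B N] [IsScalarTower A B N]
    {n m : ℕ} (h : n ≤ m) (D : M →ₗ[A] N) (hD : Diff16.IsDiffOpLE A B M N n D) :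
    Diff16.IsDiffOpLE A B M N m D := by
  induction h with
  | refl => exact hD
  | step _ ih => exact diff16_mono_succ _ _ ih

theorem comp {F G H : X.Modules} {n n' : ℕ} {D : F.presheaf ⟶ G.presheaf} {D' : G.presheaf ⟶ H.presheaf}
    (hD : IsDiffOpLE f F G n D) (hD' : IsDiffOpLE f G H n' D') :
    IsDiffOpLE f F H (n + n') (D ≫ D') := by
  rw [isDiffOpLE_iff_stalk] at hD hD' ⊢
  intro x
  obtain ⟨h1, h2⟩ := hD x
  obtain ⟨h1', h2'⟩ := hD' x
  have e : ∀ m, DS (D ≫ D') x m = DS D' x (DS D x m) := fun m => by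
    obtain ⟨U, hU, t, rfl⟩ := TopCat.Presheaf.exists_germ_eq F.presheaf m
    rw [DS_germ, DS_germ, DS_germ]
    rfl
  refine ⟨fun r m => by rw [e, e, h1, h1'], ?_⟩
  letI := algS f x
  letI := FlatMod.moduleStalkOver f F x
  letI := FlatMod.moduleStalkOver f G x
  letI := FlatMod.moduleStalkOver f H x
  haveI := Fdesc.PullbackStalk.isScalarTower f F x
  haveI := Fdesc.PullbackStalk.isScalarTower f G x
  haveI := Fdesc.PullbackStalk.isScalarTower f H x
  have h3 := Groth.Agent.S2799.result _ _ _ _ _ n n' _ _ h2 h2'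
  convert h3 using 1
  ext m
  exact e m

theorem mono {F G : X.Modules} {n m : ℕ} (h : n ≤ m) {D : F.presheaf ⟶ G.presheaf}
    (hD : IsDiffOpLE f F G n D) : IsDiffOpLE f F G m D := by
  rw [isDiffOpLE_iff_stalk] at hD ⊢
  intro x
  obtain ⟨h1, h2⟩ := hD x
  letI := algS f x
  letI := FlatMod.moduleStalkOver f F x
  letI := FlatMod.moduleStalkOver f G x
  haveI := Fdesc.PullbackStalk.isScalarTower f F x
  haveI := Fdesc.PullbackStalk.isScalarTower f G x
  exact ⟨h1, diff16_mono h _ h2⟩

theorem iff_zero {F G : X.Modules} (D : F.presheaf ⟶ G.presheaf) : IsDiffOpLE f F G 0 D ↔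
    ∀ (U : X.Opens) (a : Γ(X, U)) (t : Γ(F, U)), D.app (op U) (a • t) = a • D.app (op U) t := by
  have key : ∀ (U : X.Opens) (a : Fin (0 + 1) → Γ(X, U)) (t : Γ(F, U)),
      (∑ H : Finset (Fin (0 + 1)),
        ((-1 : ℤ) ^ H.card) • ((∏ i ∈ H, a i) • D.app (op U) ((∏ i ∈ Hᶜ, a i) • t))) =
      D.app (op U) (a 0 • t) - a 0 • D.app (op U) t := by
    intro U a t
    have h1 : (Finset.univ : Finset (Finset (Fin (0 + 1)))) = {∅, {0}} := by decide
    rw [h1, Finset.sum_pair (by decide)]
    have h2 : (∅ : Finset (Fin (0 + 1)))ᶜ = {0} := by decide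
    have h3 : ({0} : Finset (Fin (0 + 1)))ᶜ = ∅ := by decide
    rw [h2, h3]
    simp [sub_eq_add_neg]
  rw [isDiffOpLE_iff_alt]
  constructor
  · rintro ⟨-, h⟩ U a t
    have := h U (fun _ => a) t
    rw [key] at this
    exact sub_eq_zero.1 this
  · intro h
    refine ⟨fun V s U hU t => h U _ t, fun U a t => ?_⟩
    rw [key, h, sub_self]

theorem isDiffOpLE_dPHom (n : ℕ) (F : X.Modules) : IsDiffOpLE f F (PMod f n F) n (dPHom f n F) :=
  ⟨𝟙 _, fun U t => rfl⟩

/-- The Leibniz rule for operators of order one. -/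
theorem one_mul_mul {F G : X.Modules} {D : F.presheaf ⟶ G.presheaf} (hD : IsDiffOpLE f F G 1 D)
    (U : X.Opens) (a b : Γ(X, U)) (t : Γ(F, U)) :
    D.app (op U) ((a * b) • t) = a • D.app (op U) (b • t) + b • D.app (op U) (a • t) -
      (a * b) • D.app (op U) t := by
  have h := ((isDiffOpLE_iff_alt f 1 D).1 hD).2 U ![a, b] t
  have h1 : (Finset.univ : Finset (Finset (Fin (1 + 1)))) = {∅, {0}, {1}, {0, 1}} := by decide
  rw [h1, Finset.sum_insert (by decide), Finset.sum_insert (by decide), Finset.sum_pair (by decide)] at h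
  have h2 : (∅ : Finset (Fin (1 + 1)))ᶜ = {0, 1} := by decide
  have h3 : ({0} : Finset (Fin (1 + 1)))ᶜ = {1} := by decide
  have h4 : ({1} : Finset (Fin (1 + 1)))ᶜ = {0} := by decide
  have h5 : ({0, 1} : Finset (Fin (1 + 1)))ᶜ = ∅ := by decide
  rw [h2, h3, h4, h5] at h
  simp only [Finset.prod_empty, Finset.card_empty, pow_zero, one_smul, Finset.card_singleton, pow_one,
    Finset.prod_singleton, Finset.prod_pair (show (0 : Fin (1 + 1)) ≠ 1 by decide),
    Finset.card_pair (show (0 : Fin (1 + 1)) ≠ 1 by decide)] at h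
  simp only [Matrix.cons_val_zero, Matrix.cons_val_one, neg_smul, one_smul, even_two, Even.neg_pow,
    one_pow] at h
  rw [← sub_eq_zero, ← h]
  abel

/-- Operators of order at most one on `O_X`. -/
theorem existsUnique_add_der (G : X.Modules) (D : (Coh.structureModule X).presheaf ⟶ G.presheaf)
    (hD : IsDiffOpLE f (Coh.structureModule X) G 1 D) :
    ∃! p : (Coh.structureModule X ⟶ G) × OmegaSh.Der f G,
      ∀ (U : X.Opens) (a : Γ(X, U)),
        D.app (op U) (OmegaSh.strSect X U a) = p.1.app U (OmegaSh.strSect X U a) + p.2.app U a := by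
  -- the value at one
  let e : ∀ U : X.Opens, Γ(G, U) := fun U => D.app (op U) (OmegaSh.strSect X U 1)
  have he : ∀ (U V : X.Opens) (h : V ≤ U), G.presheaf.map (homOfLE h).op (e U) = e V := by
    intro U V h
    rw [← app_res, ← OmegaSh.strSect_map, map_one]
  let D' : ∀ U : X.Opens, Γ(X, U) →+ Γ(G, U) := fun U => (D.app (op U)).hom.comp (OmegaSh.strSect X U)
  have hD'm : ∀ (U : X.Opens) (a b : Γ(X, U)), D' U (a * b) = a • D' U b + b • D' U a - (a * b) • e U := by
    intro U a b
    have h1 := one_mul_mul f hD U a b (OmegaSh.strSect X U 1)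
    rw [← OmegaSh.strSect_mul, ← OmegaSh.strSect_mul, ← OmegaSh.strSect_mul, mul_one, mul_one,
      mul_one] at h1
    exact h1
  have hD'r : ∀ (U V : X.Opens) (h : V ≤ U) (a : Γ(X, U)),
      D' V (X.presheaf.map (homOfLE h).op a) = G.presheaf.map (homOfLE h).op (D' U a) := by
    intro U V h a
    exact (congrArg (D.app (op V)) (OmegaSh.strSect_map (W := U) h a)).trans (app_res D h (OmegaSh.strSect X U a))
  have hD's : ∀ (V : S.Opens) (c : Γ(S, V)), D' (f ⁻¹ᵁ V) (f.app V c) = f.app V c • e (f ⁻¹ᵁ V) := by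
    intro V c
    have h1 := DiffOp.app_smul f 1 hD V c (f ⁻¹ᵁ V) le_rfl (OmegaSh.strSect X _ 1)
    have h2 : X.presheaf.map (homOfLE (le_refl (f ⁻¹ᵁ V))).op (f.app V c) = f.app V c := by
      have : (homOfLE (le_refl (f ⁻¹ᵁ V))).op = 𝟙 (op (f ⁻¹ᵁ V)) := rfl
      rw [this, CategoryTheory.Functor.map_id]
      rfl
    rw [h2, ← OmegaSh.strSect_mul, mul_one] at h1
    exact h1
  let sm : ∀ U : X.Opens, Γ(X, U) →+ Γ(G, U) := fun U =>
    { toFun := fun a => a • e U, map_zero' := zero_smul _ _, map_add' := fun a b => add_smul _ _ _ }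
  have hsm : ∀ (U V : X.Opens) (h : V ≤ U) (a : Γ(X, U)),
      sm V (X.presheaf.map (homOfLE h).op a) = G.presheaf.map (homOfLE h).op (sm U a) := by
    intro U V h a
    change X.presheaf.map (homOfLE h).op a • e V = G.presheaf.map (homOfLE h).op (a • e U)
    rw [Scheme.Modules.map_smul, he]
  have hsm' : ∀ (U : X.Opens) (a b : Γ(X, U)), sm U (a * b) = a • sm U b := by
    intro U a b
    exact mul_smul a b (e U)
  let v : Coh.structureModule X ⟶ G := K137.Basic.homMk
    { app := fun U => AddCommGrpCat.ofHom ((sm U.unop).comp (OmegaSh.fnSect X U.unop))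
      naturality := fun U V i => by
        ext a
        exact hsm U.unop V.unop i.unop.le (OmegaSh.fnSect X U.unop a) }
    (fun U a m => hsm' U a (OmegaSh.fnSect X U m))
  have hv : ∀ (U : X.Opens) (a : Γ(X, U)), v.app U (OmegaSh.strSect X U a) = a • e U := fun U a => rfl
  let d : OmegaSh.Der f G := K583.DerAffine.mkDer f G
    (fun U => D' U - { toFun := fun a => a • e U, map_zero' := zero_smul _ _, map_add' := fun a b => add_smul _ _ _ })
    (by
      intro U a b
      change D' U (a * b) - (a * b) • e U = a • (D' U b - b • e U) + b • (D' U a - a • e U)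
      rw [hD'm, smul_sub, smul_sub, smul_smul, smul_smul, mul_comm b a]
      abel)
    (by
      intro U V h a
      change D' V (X.presheaf.map (homOfLE h).op a) - X.presheaf.map (homOfLE h).op a • e V =
        G.presheaf.map (homOfLE h).op (D' U a - a • e U)
      rw [hD'r, map_sub, Scheme.Modules.map_smul, he])
    (by
      intro V c
      change D' _ (f.app V c) - f.app V c • e _ = 0
      rw [hD's, sub_self])
  have hd : ∀ (U : X.Opens) (a : Γ(X, U)), d.app U a = D' U a - a • e U := fun U a => rfl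
  refine ⟨(v, d), fun U a => ?_, ?_⟩
  · rw [hv, hd]
    change D' U a = _
    abel
  · rintro ⟨v', d'⟩ h
    dsimp only at h
    have h1 : ∀ U, v'.app U (OmegaSh.strSect X U 1) = e U := by
      intro U
      have h2 := h U 1
      have h3 : d'.app U 1 = 0 := by
        have h4 := K583.DerAffine.app_mul d' U 1 1
        rw [mul_one, one_smul] at h4
        exact left_eq_add.mp h4
      rw [h3, add_zero] at h2
      exact h2.symm
    have h2 : ∀ U a, v'.app U (OmegaSh.strSect X U a) = a • e U := by
      intro U a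
      rw [← h1, ← Scheme.Modules.Hom.app_smul, ← OmegaSh.strSect_mul, mul_one]
    refine Prod.ext ?_ ?_
    · apply Scheme.Modules.hom_ext
      intro U
      ext a
      exact (h2 U a).trans (hv U a).symm
    · apply K583.DerAffine.ext_of_app
      intro U a
      have h3 := h U a
      rw [h2] at h3
      rw [hd]
      change D' U a = _ at h3
      rw [h3]
      abel

/-- The maps `P^(n+n') → P^n'(P^n)`. -/
theorem existsUnique_delta (n n' : ℕ) :
    ∃! δ : P f (n + n') ⟶ PMod f n' (P f n), ∀ (U : X.Opens) (t : Γ(X, U)),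
      δ.app U (dn f (n + n') U t) = dP f n' (P f n) U (dn f n U t) := by
  obtain ⟨u, hu⟩ := comp f (isDiffOpLE_dPHom f n (Coh.structureModule X)) (isDiffOpLE_dPHom f n' (P f n))
  refine ⟨u, fun U t => (hu U (OmegaSh.strSect X U t)).symm, fun δ hδ => ?_⟩
  apply hom_ext_dP
  intro U t
  exact (hδ U (OmegaSh.fnSect X U t)).trans (hu U t)

end K136.DiffOpThm
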