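import Groth.Agent.Nrm16.K137.InfNbhd
import Groth.Agent.Nrm16.K137.Ideal

/-!
# Base change of infinitesimal neighbourhoods
-/

set_option autoImplicit false
universe u

open CategoryTheory CategoryTheory.Limits AlgebraicGeometry TopologicalSpace Opposite PrinPart

namespace K136.GrBase

variable {Y X Y' X' : Scheme.{u}} (f : Y ⟶ X) [IsClosedImmersion f]
    {v : X' ⟶ X} {u : Y' ⟶ Y} (f' : Y' ⟶ X') (hsq : IsPullback u f' f v)

include hsq in
theorem ker_eq_comap : f'.ker = f.ker.comap v := by
  have e := hsq.flip.isoPullback_hom_fst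
  rw [← Scheme.IdealSheafData.ker_fst_of_isClosedImmersion f v, ← e, Scheme.Hom.ker_comp_of_isIso]

include hsq in
theorem isPullback_infNbhd (n : ℕ) (w : infNbhd f' n ⟶ infNbhd f n)
    (hw : w ≫ infNbhdι f n = infNbhdι f' n ≫ v) :
    IsPullback w (infNbhdι f' n) (infNbhdι f n) v := by
  refine (isPullback_of_isClosedImmersion (infNbhdι f' n) (infNbhdι f n) w v hw.symm ?_).flip
  rw [K137.InfNbhd.ker_infNbhdι, K137.InfNbhd.ker_infNbhdι, Groth.Agent.Divis.IdealComap.comap_pow,
    ker_eq_comap f f' hsq]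

end K136.GrBase
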