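import Groth.Agent.Nrm16.K136.PullSq
import Mathlib.RingTheory.Flat.Basic
import Mathlib.RingTheory.RingHom.Flat
import Mathlib.AlgebraicGeometry.Morphisms.Flat

/-!
# The graded pieces of the powers of an ideal under base change

For `v : X' ⟶ X` and ideals `J ⊆ O_X`, `J' ⊆ O_{X'}` with `J O_{X'} ⊆ J'`:
* `exists_mu`: the map `v^* J ⟶ J'`; it is epi when `J' = J O_{X'}` (`epi_mu`), iso if moreover `v` is flat
  (`isIso_mu`);
* `eq_sq`: the map `u^* f^* J ⟶ f'^* J'` on graded pieces is obtained from it.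
-/

set_option autoImplicit false
set_option linter.style.haveILetI false
universe u

open CategoryTheory CategoryTheory.Limits AlgebraicGeometry TopologicalSpace Opposite OmegaSh

namespace K136.GrMap

open Groth.Agent Groth.Agent.CohqA.BaseChangeMod K136.IsoBC K136.PullSq
open scoped TensorProduct

section alg

/-- The extension of an ideal along a flat map is the base change. -/
theorem isBC_of_flat {C C' M N : Type u} [CommRing C] [CommRing C'] [AddCommGroup M] [Module C M]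
    [AddCommGroup N] [Module C' N] (ρ : C →+* C') (hρ : ρ.Flat) (i : M →+ C)
    (hi : ∀ (r : C) (m : M), i (r • m) = r * i m) (hinj : Function.Injective i) (i' : N →+ C')
    (hi' : ∀ (r : C') (n : N), i' (r • n) = r * i' n) (hinj' : Function.Injective i')
    (hrange : ∀ n, i' n ∈ Ideal.span (Set.range (fun m => ρ (i m)))) (g : M →+ N)
    (hg : ∀ m, i' (g m) = ρ (i m)) : IsBC ρ g := by
  letI := ρ.toAlgebra
  haveI : Module.Flat C C' := hρ
  letI : Module C N := Module.compHom N ρ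
  haveI : IsScalarTower C C' N := ⟨fun r a m => by rw [Algebra.smul_def, mul_smul]; rfl⟩
  let iL : M →ₗ[C] C := { i with map_smul' := hi }
  let iL' : N →ₗ[C'] C' := { i' with map_smul' := hi' }
  have hgs : ∀ (r : C) (m : M), g (r • m) = ρ r • g m := by
    intro r m
    apply hinj'
    rw [hg, hi, hi', hg, map_mul]
  let gL : M →ₗ[C] N := { g with map_smul' := hgs }
  let L : C' ⊗[C] M →ₗ[C'] N := TensorProduct.AlgebraTensorModule.lift
    ((LinearMap.lsmul C' (M →ₗ[C] N)).flip gL)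
  have hL : ∀ (c : C') (m : M), L (c ⊗ₜ m) = c • g m := fun c m => rfl
  have hcomp : ∀ t : C' ⊗[C] M, iL' (L t) =
      TensorProduct.rid C C' (LinearMap.lTensor C' iL t) := by
    intro t
    induction t using TensorProduct.induction_on with
    | zero => simp
    | add x y hx hy => rw [map_add, map_add, map_add, map_add, hx, hy]
    | tmul c m =>
      rw [hL, map_smul, LinearMap.lTensor_tmul, TensorProduct.rid_tmul]
      change c • i' (g m) = ρ (i m) * c
      rw [hg, smul_eq_mul, mul_comm]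
  have hLinj : Function.Injective L := by
    intro x y hxy
    have h1 : iL' (L x) = iL' (L y) := by rw [hxy]
    rw [hcomp, hcomp] at h1
    exact Module.Flat.lTensor_preserves_injective_linearMap (M := C') iL hinj
      ((TensorProduct.rid C C').injective h1)
  have hLsurj : Function.Surjective L := by
    intro n
    have key : ∀ a ∈ Ideal.span (Set.range (fun m => ρ (i m))), ∃ t, iL' (L t) = a := by
      intro a ha
      induction ha using Submodule.span_induction with
      | zero => exact ⟨0, by simp⟩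
      | mem a ha =>
        obtain ⟨m, rfl⟩ := ha
        refine ⟨1 ⊗ₜ m, ?_⟩
        rw [hL, one_smul]
        exact hg m
      | add a b _ _ ha hb =>
        obtain ⟨t, rfl⟩ := ha
        obtain ⟨t', rfl⟩ := hb
        exact ⟨t + t', by rw [map_add, map_add]⟩
      | smul r a _ ha =>
        obtain ⟨t, rfl⟩ := ha
        exact ⟨r • t, by rw [map_smul, map_smul]⟩
    obtain ⟨t, ht⟩ := key _ (hrange n)
    exact ⟨t, hinj' ht⟩
  have h0 := (isBC_iff_isBaseChange (TensorProduct.mk C C' M 1)).2 (TensorProduct.isBaseChange C M C')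
  exact IsBC.of_equiv h0 (LinearEquiv.ofBijective L ⟨hLinj, hLsurj⟩) fun m => by
    change L (1 ⊗ₜ m) = g m
    rw [hL, one_smul]

end alg

variable {X X' : Scheme.{u}} {v : X' ⟶ X} {J : X.IdealSheafData} {J' : X'.IdealSheafData}

/-- Functions in `J` pull back to functions in `J'`. -/
theorem exists_sect (hJ : J ≤ J'.map v) (U : X.Opens) (s : Γ(ClSub.idealMod J, U)) :
    ∃ s' : Γ(ClSub.idealMod J', v ⁻¹ᵁ U), idealSect J' (v ⁻¹ᵁ U) s' = v.app U (idealSect J U s) := by
  rw [← K137.Ideal.subschemeι_app_eq_zero_iff]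
  have h1 := (K137.Ideal.subschemeι_app_eq_zero_iff J U _).2 ⟨s, rfl⟩
  have h2 := Scheme.Hom.congr_app (Scheme.IdealSheafData.subschemeMap_subschemeι J' J v hJ) U
  rw [Scheme.Hom.comp_app, Scheme.Hom.comp_app] at h2
  have h3 := congr($h2 (idealSect J U s))
  change (Scheme.IdealSheafData.subschemeMap J' J v hJ).app _ (J.subschemeι.app U (idealSect J U s)) =
    J'.subscheme.presheaf.map _ (J'.subschemeι.app (v ⁻¹ᵁ U) (v.app U (idealSect J U s))) at h3
  rw [h1, map_zero] at h3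
  have hb := ConcreteCategory.bijective_of_isIso (J'.subscheme.presheaf.map (eqToHom (show
    (Scheme.IdealSheafData.subschemeMap J' J v hJ ≫ J.subschemeι) ⁻¹ᵁ U = (J'.subschemeι ≫ v) ⁻¹ᵁ U by
      rw [Scheme.IdealSheafData.subschemeMap_subschemeι])).op)
  exact (injective_iff_map_eq_zero (J'.subscheme.presheaf.map (eqToHom (show
    (Scheme.IdealSheafData.subschemeMap J' J v hJ ≫ J.subschemeι) ⁻¹ᵁ U = (J'.subschemeι ≫ v) ⁻¹ᵁ U by
      rw [Scheme.IdealSheafData.subschemeMap_subschemeι])).op).hom).1 hb.1 _ h3.symm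

/-- The map `v^* J ⟶ J'`. -/
def IsMu (μ : (Scheme.Modules.pullback v).obj (ClSub.idealMod J) ⟶ ClSub.idealMod J') : Prop :=
  ∀ (U : X.Opens) (s : Γ(ClSub.idealMod J, U)),
    idealSect J' (v ⁻¹ᵁ U) (μ.app (v ⁻¹ᵁ U) (pullSect v (ClSub.idealMod J) U s)) = v.app U (idealSect J U s)

theorem exists_mu (hJ : J ≤ J'.map v) :
    ∃ μ : (Scheme.Modules.pullback v).obj (ClSub.idealMod J) ⟶ ClSub.idealMod J', IsMu μ := by
  choose s' hs' using exists_sect hJ
  let sA : ∀ U : X.Opens, Γ(ClSub.idealMod J, U) →+ Γ(ClSub.idealMod J', v ⁻¹ᵁ U) := fun U =>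
    AddMonoidHom.mk' (s' U) (fun a b => by
      apply K137.Ideal.idealSect_injective J' (v ⁻¹ᵁ U)
      rw [map_add, hs', hs', hs', map_add, map_add])
  let β : (ClSub.idealMod J).presheaf ⟶ ((Scheme.Modules.pushforward v).obj (ClSub.idealMod J')).presheaf :=
    { app := fun U => AddCommGrpCat.ofHom (sA U.unop)
      naturality := fun U V i => by
        ext a
        apply K137.Ideal.idealSect_injective J' (v ⁻¹ᵁ V.unop)
        change idealSect J' (v ⁻¹ᵁ V.unop) (s' V.unop ((ClSub.idealMod J).presheaf.map i a)) =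
          idealSect J' (v ⁻¹ᵁ V.unop) ((ClSub.idealMod J').presheaf.map
            (homOfLE (v.preimage_mono i.unop.le)).op (s' U.unop a))
        rw [hs', K137.Ideal.idealSect_map, hs']
        have h1 : idealSect J V.unop ((ClSub.idealMod J).presheaf.map i a) =
          X.presheaf.map (homOfLE i.unop.le).op (idealSect J U.unop a) :=
          K137.Ideal.idealSect_map J i.unop.le a
        rw [h1, K137.Basic.sapp_res] }
  obtain ⟨μ, hμ⟩ := K137.Basic.exists_desc v (K137.Basic.homMk β (fun U a m => by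
    apply K137.Ideal.idealSect_injective J' (v ⁻¹ᵁ U)
    change idealSect J' (v ⁻¹ᵁ U) (s' U (a • m)) = idealSect J' (v ⁻¹ᵁ U) (v.app U a • s' U m)
    rw [hs', K137.Ideal.idealSect_smul, K137.Ideal.idealSect_smul, hs', map_mul]))
  refine ⟨μ, fun U s => ?_⟩
  rw [hμ]
  exact hs' U s

section chart

variable {μ : (Scheme.Modules.pullback v).obj (ClSub.idealMod J) ⟶ ClSub.idealMod J'} (hμ : IsMu μ)

include hμ in
theorem idealSect_psec {U : X.Opens} {U' : X'.Opens} (e : U' ≤ v ⁻¹ᵁ U) (s : Γ(ClSub.idealMod J, U)) :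
    idealSect J' U' (μ.app U' (psec v (ClSub.idealMod J) e s)) = v.appLE U U' e (idealSect J U s) := by
  rw [psec_apply, K137.Basic.app_res, K137.Ideal.idealSect_map, hμ]
  rfl

theorem range_idealSect (U : X.affineOpens) :
    Set.range (idealSect J U.1) = (J.ideal U : Set Γ(X, U.1)) := by
  ext a
  constructor
  · rintro ⟨s, rfl⟩
    exact K137.Ideal.idealSect_mem J U s
  · intro ha
    exact K137.Ideal.exists_idealSect_eq J U ha

theorem mem_span_of_comap (hJ' : J' = J.comap v) (U : X.affineOpens) (U' : X'.affineOpens)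
    (e : U'.1 ≤ v ⁻¹ᵁ U.1) (n : Γ(ClSub.idealMod J', U'.1)) :
    idealSect J' U'.1 n ∈ Ideal.span (Set.range (fun m => (v.appLE U.1 U'.1 e).hom (idealSect J U.1 m))) := by
  subst hJ'
  have h1 := K137.Ideal.idealSect_mem (J.comap v) U' n
  rw [Divis.IdealComap.ideal_comap _ v U U' e, Ideal.map, ← range_idealSect, ← Set.range_comp] at h1
  exact h1

include hμ in
theorem isBC_mu (hJ' : J' = J.comap v) (U : X.affineOpens) (U' : X'.affineOpens)
    (e : U'.1 ≤ v ⁻¹ᵁ U.1) (hfl : (v.appLE U.1 U'.1 e).hom.Flat) :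
    IsBC (v.appLE U.1 U'.1 e).hom ((μ.app U'.1).hom.comp (psec v (ClSub.idealMod J) e)) :=
  isBC_of_flat _ hfl (idealSect J U.1) (fun r m => K137.Ideal.idealSect_smul J U.1 r m)
    (K137.Ideal.idealSect_injective J U.1) (idealSect J' U'.1)
    (fun r m => K137.Ideal.idealSect_smul J' U'.1 r m) (K137.Ideal.idealSect_injective J' U'.1)
    (mem_span_of_comap hJ' U U' e) _ (idealSect_psec hμ e)

include hμ in
theorem surjective_mu (hJ' : J' = J.comap v) (U : X.affineOpens) (U' : X'.affineOpens)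
    (e : U'.1 ≤ v ⁻¹ᵁ U.1) : Function.Surjective (μ.app U'.1) := by
  intro n
  have key : ∀ a ∈ Ideal.span (Set.range (fun m => (v.appLE U.1 U'.1 e).hom (idealSect J U.1 m))),
      ∃ t, idealSect J' U'.1 (μ.app U'.1 t) = a := by
    intro a ha
    induction ha using Submodule.span_induction with
    | zero => exact ⟨0, by rw [map_zero, map_zero]⟩
    | mem a ha =>
      obtain ⟨m, rfl⟩ := ha
      exact ⟨_, idealSect_psec hμ e m⟩
    | add a b _ _ ha hb =>
      obtain ⟨t, rfl⟩ := ha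
      obtain ⟨t', rfl⟩ := hb
      exact ⟨t + t', by rw [map_add, map_add]⟩
    | smul r a _ ha =>
      obtain ⟨t, rfl⟩ := ha
      exact ⟨r • t, by rw [Scheme.Modules.Hom.app_smul, K137.Ideal.idealSect_smul, smul_eq_mul]⟩
  obtain ⟨t, ht⟩ := key _ (mem_span_of_comap hJ' U U' e n)
  exact ⟨t, K137.Ideal.idealSect_injective J' U'.1 ht⟩

include hμ in
theorem epi_mu (hJ' : J' = J.comap v) : Epi μ := by
  apply epi_of_local
  intro O n x hx
  obtain ⟨U, U', -, hxU', hU'O, -, e⟩ := Divis.IdealComap.exists_affine_le v x O hx ⊤ trivial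
  obtain ⟨m, hm⟩ := surjective_mu hμ hJ' U U' e ((ClSub.idealMod J').presheaf.map (homOfLE hU'O).op n)
  exact ⟨U'.1, hU'O, hxU', m, hm⟩

include hμ in
theorem isIso_mu [Flat v] (hJ' : J' = J.comap v) : IsIso μ := by
  have q1 : (ClSub.idealMod J).IsQuasicoherent := PerfA.IdealModule.isQCoh_idealMod J
  have q2 : (ClSub.idealMod J').IsQuasicoherent := PerfA.IdealModule.isQCoh_idealMod J'
  apply isIso_of_isBC
  intro x
  obtain ⟨U, U', -, hxU', -, -, e⟩ := Divis.IdealComap.exists_affine_le v x ⊤ trivial ⊤ trivial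
  exact ⟨U.1, U'.1, U.2, U'.2, e, hxU', isBC_mu hμ hJ' U U' e (Flat.flat_appLE v U.2 U'.2 e)⟩

end chart

section Gr

variable {Y Y' : Scheme.{u}} {f : Y ⟶ X} {u : Y' ⟶ Y} {f' : Y' ⟶ X'} (w : u ≫ f = f' ≫ v)
  {μ : (Scheme.Modules.pullback v).obj (ClSub.idealMod J) ⟶ ClSub.idealMod J'} (hμ : IsMu μ)

include hμ in
/-- The map of graded pieces through `v^* J ⟶ J'`. -/
theorem eq_sq (φ : (Scheme.Modules.pullback u).obj ((Scheme.Modules.pullback f).obj (ClSub.idealMod J)) ⟶
      (Scheme.Modules.pullback f').obj (ClSub.idealMod J'))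
    (hφ : ∀ (U : X.Opens) (s : Γ(ClSub.idealMod J, U)) (s' : Γ(ClSub.idealMod J', v ⁻¹ᵁ U)),
      idealSect J' (v ⁻¹ᵁ U) s' = v.app U (idealSect J U s) →
      ∀ (V : Y'.Opens) (h₁ : V ≤ u ⁻¹ᵁ (f ⁻¹ᵁ U)) (h₂ : V ≤ f' ⁻¹ᵁ (v ⁻¹ᵁ U)),
        ((Scheme.Modules.pullback f').obj (ClSub.idealMod J')).presheaf.map (homOfLE h₁).op
          (φ.app (u ⁻¹ᵁ (f ⁻¹ᵁ U)) (pullSect u _ (f ⁻¹ᵁ U) (pullSect f _ U s))) =
        ((Scheme.Modules.pullback f').obj (ClSub.idealMod J')).presheaf.map (homOfLE h₂).op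
          (pullSect f' _ (v ⁻¹ᵁ U) s')) :
    φ = (sqIso w (ClSub.idealMod J)).hom ≫ (Scheme.Modules.pullback f').map μ := by
  apply hom_ext₂ u f
  intro U s
  have e0 : u ⁻¹ᵁ (f ⁻¹ᵁ U) = f' ⁻¹ᵁ (v ⁻¹ᵁ U) := by
    rw [← Scheme.Hom.comp_preimage, w, Scheme.Hom.comp_preimage]
  have h1 := hφ U s _ (hμ U s) (u ⁻¹ᵁ (f ⁻¹ᵁ U)) le_rfl e0.le
  rw [res_self] at h1
  rw [h1, ← map_pullSect]
  have h2 := sq_pullSect w (ClSub.idealMod J) U s (u ⁻¹ᵁ (f ⁻¹ᵁ U)) le_rfl e0.le
  rw [res_self] at h2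
  change _ = ((Scheme.Modules.pullback f').map μ).app _ ((sqIso w (ClSub.idealMod J)).hom.app _ _)
  rw [h2, K137.Basic.app_res]

variable {n : ℕ}
  {φ : (Scheme.Modules.pullback u).obj (PrinPart.grMod f n) ⟶ PrinPart.grMod f' n}

theorem isGrMap_eq (hφ : PrinPart.IsGrMap f' f v u n φ)
    {μ : (Scheme.Modules.pullback v).obj (ClSub.idealMod (f.ker ^ n)) ⟶ ClSub.idealMod (f'.ker ^ n)}
    (hμ : IsMu μ) :
    φ = (sqIso hφ.1 (ClSub.idealMod (f.ker ^ n))).hom ≫ (Scheme.Modules.pullback f').map μ :=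
  eq_sq hφ.1 hμ φ hφ.2

theorem epi_grMap (hφ : PrinPart.IsGrMap f' f v u n φ) (hker : f'.ker = f.ker.comap v) : Epi φ := by
  have e : f'.ker ^ n = (f.ker ^ n).comap v := by rw [hker, Divis.IdealComap.comap_pow]
  obtain ⟨μ, hμ⟩ := exists_mu (v := v) (J := f.ker ^ n) (J' := f'.ker ^ n) (by
    rw [Scheme.IdealSheafData.le_map_iff_comap_le, e])
  rw [isGrMap_eq hφ hμ]
  have := epi_mu hμ e
  have h2 : Epi ((Scheme.Modules.pullback f').map μ) := inferInstance
  exact epi_comp' (IsIso.epi_of_iso _) h2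

theorem isIso_grMap [Flat v] (hφ : PrinPart.IsGrMap f' f v u n φ) (hker : f'.ker = f.ker.comap v) :
    IsIso φ := by
  have e : f'.ker ^ n = (f.ker ^ n).comap v := by rw [hker, Divis.IdealComap.comap_pow]
  obtain ⟨μ, hμ⟩ := exists_mu (v := v) (J := f.ker ^ n) (J' := f'.ker ^ n) (by
    rw [Scheme.IdealSheafData.le_map_iff_comap_le, e])
  rw [isGrMap_eq hφ hμ]
  have := isIso_mu hμ e
  have h2 : IsIso ((Scheme.Modules.pullback f').map μ) := inferInstance
  exact IsIso.comp_isIso' (Iso.isIso_hom _) h2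

end Gr

end K136.GrMap
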