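import Groth.Agent.OmegaSh.K583.AlgUniv
import Mathlib.RingTheory.TensorProduct.Basic
import Mathlib.RingTheory.TensorProduct.Maps

/-!
# Differentials of a tensor product of algebras

If `T = B ⊗_A C` then `Ω_T = T ⊗ Ω_B ⊕ T ⊗ Ω_C`, in the form of `IsAlgUniv`.
-/

set_option autoImplicit false
universe u

open scoped TensorProduct

namespace K136.KaehlerProd

open K583.AlgUniv

variable {A B C T : Type u} [CommRing A] [CommRing B] [CommRing C] [CommRing T] [Algebra A B]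
  [Algebra A C] [Algebra A T] (i₁ : B →ₐ[A] T) (i₂ : C →ₐ[A] T)

section

variable {M₁ M₂ : Type u} [AddCommGroup M₁] [Module T M₁] [AddCommGroup M₂] [Module T M₂]
  (δ₁ : B →+ M₁) (δ₂ : C →+ M₂)

/-- A derivation along a ring map. -/
structure DerAlong (i : B →ₐ[A] T) (δ : B →+ M₁) : Prop where
  leibniz : ∀ a b, δ (a * b) = i a • δ b + i b • δ a
  zero : ∀ a : A, δ (algebraMap A B a) = 0

variable {i₁ i₂ δ₁ δ₂}

theorem DerAlong.map_smul (h : DerAlong i₁ δ₁) (a : A) (b : B) :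
    δ₁ (a • b) = algebraMap A T a • δ₁ b := by
  rw [Algebra.smul_def, h.leibniz, h.zero, smul_zero, add_zero, AlgHom.commutes]

theorem DerAlong.map_one (h : DerAlong i₁ δ₁) : δ₁ 1 = 0 := by
  have := h.zero 1
  rwa [_root_.map_one] at this

/-- The additive map `B ⊗ C → M₁ × M₂`, `b ⊗ c ↦ (c δ₁ b, b δ₂ c)`. -/
noncomputable def L (h₁ : DerAlong i₁ δ₁) (h₂ : DerAlong i₂ δ₂) : B ⊗[A] C →+ M₁ × M₂ :=
  letI : Module A M₁ := Module.compHom M₁ (algebraMap A T)
  letI : Module A M₂ := Module.compHom M₂ (algebraMap A T)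
  (TensorProduct.lift (LinearMap.mk₂ A (fun (b : B) (c : C) => ((i₂ c • δ₁ b, i₁ b • δ₂ c) : M₁ × M₂))
    (fun b b' c => by simp [smul_add, add_smul])
    (fun a b c => by
      ext
      · change i₂ c • δ₁ (a • b) = algebraMap A T a • (i₂ c • δ₁ b)
        rw [h₁.map_smul, smul_comm]
      · change i₁ (a • b) • δ₂ c = algebraMap A T a • (i₁ b • δ₂ c)
        rw [map_smul, smul_smul, Algebra.smul_def])
    (fun b c c' => by simp [smul_add, add_smul])
    (fun a b c => by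
      ext
      · change i₂ (a • c) • δ₁ b = algebraMap A T a • (i₂ c • δ₁ b)
        rw [map_smul, smul_smul, Algebra.smul_def]
      · change i₁ b • δ₂ (a • c) = algebraMap A T a • (i₁ b • δ₂ c)
        rw [h₂.map_smul, smul_comm]))).toAddMonoidHom

theorem L_tmul (h₁ : DerAlong i₁ δ₁) (h₂ : DerAlong i₂ δ₂) (b : B) (c : C) :
    L h₁ h₂ (b ⊗ₜ c) = (i₂ c • δ₁ b, i₁ b • δ₂ c) := rfl

theorem L_mul (h₁ : DerAlong i₁ δ₁) (h₂ : DerAlong i₂ δ₂) (x y : B ⊗[A] C) :
    L h₁ h₂ (x * y) = Algebra.TensorProduct.productMap i₁ i₂ x • L h₁ h₂ y +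
      Algebra.TensorProduct.productMap i₁ i₂ y • L h₁ h₂ x := by
  induction x using TensorProduct.induction_on with
  | zero => simp
  | add x x' hx hx' =>
    rw [add_mul, map_add, hx, hx', map_add, map_add, add_smul, smul_add]
    abel
  | tmul b c =>
    induction y using TensorProduct.induction_on with
    | zero => simp
    | add y y' hy hy' =>
      rw [mul_add, map_add, hy, hy', map_add, map_add, add_smul, smul_add]
      abel
    | tmul b' c' =>
      rw [Algebra.TensorProduct.tmul_mul_tmul, L_tmul, L_tmul, L_tmul,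
        Algebra.TensorProduct.productMap_apply_tmul, Algebra.TensorProduct.productMap_apply_tmul,
        h₁.leibniz, h₂.leibniz]
      ext
      · change i₂ (c * c') • (i₁ b • δ₁ b' + i₁ b' • δ₁ b) =
          (i₁ b * i₂ c) • (i₂ c' • δ₁ b') + (i₁ b' * i₂ c') • (i₂ c • δ₁ b)
        rw [map_mul, smul_add, smul_smul, smul_smul, smul_smul, smul_smul]
        congr 2 <;> ring
      · change i₁ (b * b') • (i₂ c • δ₂ c' + i₂ c' • δ₂ c) =
          (i₁ b * i₂ c) • (i₁ b' • δ₂ c') + (i₁ b' * i₂ c') • (i₁ b • δ₂ c)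
        rw [map_mul, smul_add, smul_smul, smul_smul, smul_smul, smul_smul]
        congr 2 <;> ring

end

/-- `Ω_T = T ⊗ Ω_B ⊕ T ⊗ Ω_C` for `T = B ⊗_A C`. -/
theorem bijective_prod (hb : Function.Bijective (Algebra.TensorProduct.productMap i₁ i₂))
    {M₁ M₂ M : Type u} [AddCommGroup M₁] [Module T M₁] [AddCommGroup M₂] [Module T M₂]
    [AddCommGroup M] [Module T M] {δ₁ : B →+ M₁} {δ₂ : C →+ M₂} {δ : T →+ M}
    (h₁ : DerAlong i₁ δ₁) (h₂ : DerAlong i₂ δ₂)
    (s₁ : Submodule.span T (Set.range δ₁) = ⊤) (s₂ : Submodule.span T (Set.range δ₂) = ⊤)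
    (h : IsAlgUniv (algebraMap A T) δ) (c₁ : M₁ →ₗ[T] M) (hc₁ : ∀ b, c₁ (δ₁ b) = δ (i₁ b))
    (c₂ : M₂ →ₗ[T] M) (hc₂ : ∀ c, c₂ (δ₂ c) = δ (i₂ c)) :
    Function.Bijective (LinearMap.coprod c₁ c₂) := by
  let e : B ⊗[A] C ≃ₐ[A] T := AlgEquiv.ofBijective _ hb
  have he : ∀ x, e x = Algebra.TensorProduct.productMap i₁ i₂ x := fun _ => rfl
  let δ' : T →+ M₁ × M₂ := (L h₁ h₂).comp e.symm.toAddEquiv.toAddMonoidHom
  have hδ' : ∀ x, δ' (e x) = L h₁ h₂ x := fun x => by
    change L h₁ h₂ (e.symm (e x)) = _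
    rw [AlgEquiv.symm_apply_apply]
  have hi₁ : ∀ b, i₁ b = e (b ⊗ₜ 1) := fun b => by
    rw [he, Algebra.TensorProduct.productMap_apply_tmul, map_one, mul_one]
  have hi₂ : ∀ c, i₂ c = e (1 ⊗ₜ c) := fun b => by
    rw [he, Algebra.TensorProduct.productMap_apply_tmul, map_one, one_mul]
  have hder : IsDer (algebraMap A T) δ' := by
    refine ⟨fun a b => ?_, fun a => ?_⟩
    · obtain ⟨a, rfl⟩ := e.surjective a
      obtain ⟨b, rfl⟩ := e.surjective b
      rw [← map_mul, hδ', hδ', hδ', L_mul, ← he, ← he]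
    · have : algebraMap A T a = e ((algebraMap A B a) ⊗ₜ 1) := by
        rw [← hi₁, AlgHom.commutes]
      rw [this, hδ', L_tmul, h₁.zero, h₂.map_one, smul_zero, smul_zero]
      rfl
  obtain ⟨ρ, hρ, -⟩ := h.lift _ δ' hder
  have k₁ : ∀ b, ρ (δ (i₁ b)) = (δ₁ b, 0) := fun b => by
    rw [hρ, hi₁, hδ', L_tmul, h₂.map_one, map_one, one_smul, smul_zero]
  have k₂ : ∀ c, ρ (δ (i₂ c)) = (0, δ₂ c) := fun c => by
    rw [hρ, hi₂, hδ', L_tmul, h₁.map_one, map_one, one_smul, smul_zero]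
  have left₁ : ρ ∘ₗ c₁ = LinearMap.inl T M₁ M₂ := by
    apply LinearMap.ext_on s₁
    rintro _ ⟨b, rfl⟩
    change ρ (c₁ (δ₁ b)) = (δ₁ b, 0)
    rw [hc₁, k₁]
  have left₂ : ρ ∘ₗ c₂ = LinearMap.inr T M₁ M₂ := by
    apply LinearMap.ext_on s₂
    rintro _ ⟨b, rfl⟩
    change ρ (c₂ (δ₂ b)) = (0, δ₂ b)
    rw [hc₂, k₂]
  have left : ∀ x, ρ (LinearMap.coprod c₁ c₂ x) = x := by
    intro x
    rw [LinearMap.coprod_apply, map_add]
    have e1 : ρ (c₁ x.1) = (x.1, 0) := congr($left₁ x.1)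
    have e2 : ρ (c₂ x.2) = (0, x.2) := congr($left₂ x.2)
    rw [e1, e2]
    simp
  have right : ∀ x, LinearMap.coprod c₁ c₂ (ρ x) = x := by
    have : (LinearMap.coprod c₁ c₂) ∘ₗ ρ = LinearMap.id := by
      apply h.hom_ext
      intro t
      obtain ⟨x, rfl⟩ := e.surjective t
      change LinearMap.coprod c₁ c₂ (ρ (δ (e x))) = δ (e x)
      rw [hρ, hδ']
      induction x using TensorProduct.induction_on with
      | zero => simp
      | add x y hx hy => rw [map_add, map_add, hx, hy, map_add, map_add]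
      | tmul b c =>
        rw [L_tmul, LinearMap.coprod_apply]
        change c₁ (i₂ c • δ₁ b) + c₂ (i₁ b • δ₂ c) = _
        rw [map_smul, map_smul, hc₁, hc₂]
        have : e (b ⊗ₜ c) = i₁ b * i₂ c := by
          rw [he, Algebra.TensorProduct.productMap_apply_tmul]
        rw [this, h.leibniz, add_comm]
    intro x
    exact congr($this x)
  exact ⟨Function.LeftInverse.injective left, Function.RightInverse.surjective right⟩

end K136.KaehlerProd
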