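import Groth.Agent.Nrm16.K137.Span
import Groth.Agent.Nrm16.K136.AlgPP

/-!
# Sections of `P^n_{X/S}` over affine opens are the ring-level principal parts
-/

set_option autoImplicit false
universe u

open CategoryTheory CategoryTheory.Limits AlgebraicGeometry TopologicalSpace Opposite PrinPart
open scoped TensorProduct

namespace K136.PChart

open K137.Chart

variable {X S : Scheme.{u}} {f : X ⟶ S} {V : S.Opens} {U : X.Opens} (e : U ≤ f ⁻¹ᵁ V)

/-- Sections of `P^n` over affine opens. -/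
theorem exists_equiv (n : ℕ) (hV : IsAffineOpen V) (hU : IsAffineOpen U)
    [Algebra Γ(S, V) Γ(X, U)] (hA : ∀ a, algebraMap Γ(S, V) Γ(X, U) a = f.appLE V U e a) :
    ∃ E : PP16.P n Γ(S, V) Γ(X, U) ≃+ Γ(P f n, U),
      (∀ (b : Γ(X, U)) (p : PP16.P n Γ(S, V) Γ(X, U)), E (b • p) = b • E p) ∧
      ∀ b : Γ(X, U), E (PP16.dn n Γ(S, V) Γ(X, U) b) = dn f n U b := by
  obtain ⟨t, ht, hs, hk⟩ := exists_tot e (A := Γ(S, V)) (B := Γ(X, U)) n hV hU (Iso.refl _) (Iso.refl _)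
    (by ext a; exact hA a)
  let e1 : PP16.P n Γ(S, V) Γ(X, U) ≃+* Γ(nbhd f n, pr1 f n ⁻¹ᵁ U) :=
    (Ideal.quotEquivOfEq hk.symm).trans (RingHom.quotientKerEquivOfSurjective hs)
  have he1 : ∀ x, e1 (Ideal.Quotient.mk _ x) = t x := fun x => rfl
  let e2 : Γ(P f n, U) ≃+ Γ(nbhd f n, pr1 f n ⁻¹ᵁ U) := AddEquiv.ofBijective (th f n U) (th_bijective f n U)
  have he2 : ∀ x, e2 x = th f n U x := fun x => rfl
  refine ⟨e1.toAddEquiv.trans e2.symm, fun b p => ?_, fun b => ?_⟩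
  · change e2.symm (e1 (b • p)) = b • e2.symm (e1 p)
    rw [AddEquiv.symm_apply_eq, he2, th_smul, ← he2, AddEquiv.apply_symm_apply, Algebra.smul_def, map_mul]
    congr 1
    have h1 : algebraMap Γ(X, U) (PP16.P n Γ(S, V) Γ(X, U)) b = Ideal.Quotient.mk _ (b ⊗ₜ[Γ(S, V)] (1 : Γ(X, U))) := rfl
    rw [h1, he1, ht, map_one, map_one, mul_one]
    rfl
  · change e2.symm (e1 (PP16.dn n Γ(S, V) Γ(X, U) b)) = _
    rw [AddEquiv.symm_apply_eq, he2, th_dn]
    have h1 : PP16.dn n Γ(S, V) Γ(X, U) b = Ideal.Quotient.mk _ ((1 : Γ(X, U)) ⊗ₜ[Γ(S, V)] b) := rfl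
    rw [h1, he1, ht, map_one, map_one, one_mul]
    rfl

end K136.PChart
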