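import Groth.Agent.Nrm16.K136.GrBase
import Groth.Agent.Nrm16.K136.IsoBC

/-!
# Pull back of modules along a commutative square, on sections

* `inv_pullSect`: `pullbackComp` on pulled back sections; `congr_pullSect`;
* `sqIso w M : u^* f^* M ≅ f'^* v^* M` for `u ≫ f = f' ≫ v` and `sq_pullSect`;
* `hom_ext₂`: morphisms out of `u^* f^* M`;
* `epi_of_local`: local surjectivity.
-/

set_option autoImplicit false
set_option linter.style.haveILetI false
universe u

open CategoryTheory CategoryTheory.Limits AlgebraicGeometry TopologicalSpace Opposite OmegaSh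

namespace K136.PullSq

section comp

variable {X Y Z : Scheme.{u}} (f : X ⟶ Y) (g : Y ⟶ Z) (M : Z.Modules)

theorem inv_pullSect (U : Z.Opens) (s : Γ(M, U)) :
    ((Scheme.Modules.pullbackComp f g).inv.app M).app ((f ≫ g) ⁻¹ᵁ U) (pullSect (f ≫ g) M U s) =
      pullSect f ((Scheme.Modules.pullback g).obj M) (g ⁻¹ᵁ U) (pullSect g M U s) := by
  have h := unit_conjugateEquiv ((Scheme.Modules.pullbackPushforwardAdjunction g).comp
    (Scheme.Modules.pullbackPushforwardAdjunction f)) (Scheme.Modules.pullbackPushforwardAdjunction (f ≫ g))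
    (Scheme.Modules.pullbackComp f g).inv M
  rw [Scheme.Modules.conjugateEquiv_pullbackComp_inv] at h
  exact congr(($(h).app U) s).symm

theorem hom_pullSect (U : Z.Opens) (s : Γ(M, U)) :
    ((Scheme.Modules.pullbackComp f g).hom.app M).app ((f ≫ g) ⁻¹ᵁ U)
      (pullSect f ((Scheme.Modules.pullback g).obj M) (g ⁻¹ᵁ U) (pullSect g M U s)) =
      pullSect (f ≫ g) M U s := by
  rw [← inv_pullSect]
  have h : (Scheme.Modules.pullbackComp f g).inv.app M ≫ (Scheme.Modules.pullbackComp f g).hom.app M = 𝟙 _ :=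
    Iso.inv_hom_id_app _ _
  exact congr(($(h).app ((f ≫ g) ⁻¹ᵁ U)) (pullSect (f ≫ g) M U s))

end comp

theorem res_self {X : Scheme.{u}} (M : X.Modules) {U : X.Opens} (h : U ≤ U) (s : Γ(M, U)) :
    M.presheaf.map (homOfLE h).op s = s := by
  have : (homOfLE h).op = 𝟙 _ := rfl
  rw [this, CategoryTheory.Functor.map_id]
  rfl

theorem congr_pullSect {X Y : Scheme.{u}} {g₁ g₂ : X ⟶ Y} (h : g₁ = g₂) (M : Y.Modules) (U : Y.Opens)
    (s : Γ(M, U)) (V : X.Opens) (h₁ : V ≤ g₁ ⁻¹ᵁ U) (h₂ : V ≤ g₂ ⁻¹ᵁ U) :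
    ((Scheme.Modules.pullbackCongr h).hom.app M).app V
      (((Scheme.Modules.pullback g₁).obj M).presheaf.map (homOfLE h₁).op (pullSect g₁ M U s)) =
    ((Scheme.Modules.pullback g₂).obj M).presheaf.map (homOfLE h₂).op (pullSect g₂ M U s) := by
  subst h
  rfl

/-- Naturality of `pullSect`. -/
theorem map_pullSect {X Y : Scheme.{u}} (k : X ⟶ Y) {M N : Y.Modules} (c : M ⟶ N) (U : Y.Opens)
    (m : Γ(M, U)) : ((Scheme.Modules.pullback k).map c).app (k ⁻¹ᵁ U) (pullSect k M U m) =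
      pullSect k N U (c.app U m) := by
  have h := (Scheme.Modules.pullbackPushforwardAdjunction k).unit.naturality c
  exact (congr(($(h).app U) m)).symm

section sq

variable {Y X Y' X' : Scheme.{u}} {f : Y ⟶ X} {v : X' ⟶ X} {u : Y' ⟶ Y} {f' : Y' ⟶ X'}
  (w : u ≫ f = f' ≫ v)

/-- `u^* f^* M ≅ f'^* v^* M`. -/
noncomputable def sqIso (M : X.Modules) :
    (Scheme.Modules.pullback u).obj ((Scheme.Modules.pullback f).obj M) ≅
      (Scheme.Modules.pullback f').obj ((Scheme.Modules.pullback v).obj M) :=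
  (Scheme.Modules.pullbackComp u f).app M ≪≫ (Scheme.Modules.pullbackCongr w).app M ≪≫
    ((Scheme.Modules.pullbackComp f' v).app M).symm

theorem sq_pullSect (M : X.Modules) (U : X.Opens) (s : Γ(M, U)) (V : Y'.Opens)
    (h₁ : V ≤ u ⁻¹ᵁ (f ⁻¹ᵁ U)) (h₂ : V ≤ f' ⁻¹ᵁ (v ⁻¹ᵁ U)) :
    (sqIso w M).hom.app V (((Scheme.Modules.pullback u).obj ((Scheme.Modules.pullback f).obj M)).presheaf.map
      (homOfLE h₁).op (pullSect u _ (f ⁻¹ᵁ U) (pullSect f M U s))) =
    ((Scheme.Modules.pullback f').obj ((Scheme.Modules.pullback v).obj M)).presheaf.map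
      (homOfLE h₂).op (pullSect f' _ (v ⁻¹ᵁ U) (pullSect v M U s)) := by
  have h₁' : V ≤ (u ≫ f) ⁻¹ᵁ U := h₁
  have h₂' : V ≤ (f' ≫ v) ⁻¹ᵁ U := h₂
  have e1 : ((Scheme.Modules.pullbackComp u f).hom.app M).app V
      (((Scheme.Modules.pullback u).obj ((Scheme.Modules.pullback f).obj M)).presheaf.map
      (homOfLE h₁).op (pullSect u _ (f ⁻¹ᵁ U) (pullSect f M U s))) =
      ((Scheme.Modules.pullback (u ≫ f)).obj M).presheaf.map (homOfLE h₁').op (pullSect (u ≫ f) M U s) := by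
    rw [← hom_pullSect]
    exact K137.Basic.app_res _ h₁ _
  have e2 : ((Scheme.Modules.pullbackComp f' v).inv.app M).app V
      (((Scheme.Modules.pullback (f' ≫ v)).obj M).presheaf.map (homOfLE h₂').op (pullSect (f' ≫ v) M U s)) =
      ((Scheme.Modules.pullback f').obj ((Scheme.Modules.pullback v).obj M)).presheaf.map
      (homOfLE h₂).op (pullSect f' _ (v ⁻¹ᵁ U) (pullSect v M U s)) := by
    rw [← inv_pullSect]
    exact K137.Basic.app_res _ h₂' _
  refine Eq.trans (congrArg (fun t => ((Scheme.Modules.pullbackComp f' v).inv.app M).app V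
    (((Scheme.Modules.pullbackCongr w).hom.app M).app V t)) e1) ?_
  exact (congrArg (fun t => ((Scheme.Modules.pullbackComp f' v).inv.app M).app V t)
    (congr_pullSect w M U s V h₁' h₂')).trans e2

/-- Morphisms out of `u^* f^* M`. -/
theorem hom_ext₂ (u : Y' ⟶ Y) (f : Y ⟶ X) {M : X.Modules} {N : Y'.Modules}
    {α β : (Scheme.Modules.pullback u).obj ((Scheme.Modules.pullback f).obj M) ⟶ N}
    (H : ∀ (U : X.Opens) (s : Γ(M, U)),
      α.app (u ⁻¹ᵁ (f ⁻¹ᵁ U)) (pullSect u _ (f ⁻¹ᵁ U) (pullSect f M U s)) =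
        β.app (u ⁻¹ᵁ (f ⁻¹ᵁ U)) (pullSect u _ (f ⁻¹ᵁ U) (pullSect f M U s))) : α = β := by
  apply K137.Basic.pull_hom_ext u
  have h1 : K137.Basic.adj u α = K137.Basic.adj u β := by
    apply K137.Basic.pull_hom_ext f
    intro U s
    rw [K137.Basic.adj_app, K137.Basic.adj_app]
    exact H U s
  intro W t
  rw [← K137.Basic.adj_app, ← K137.Basic.adj_app, h1]

end sq

section Epi

variable {X : Scheme.{u}} {M N : X.Modules} (φ : M ⟶ N)

/-- Locally surjective morphisms are epimorphisms. -/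
theorem epi_of_local (H : ∀ (U : X.Opens) (n : Γ(N, U)) (x : X), x ∈ U → ∃ (V : X.Opens) (h : V ≤ U)
    (_ : x ∈ V) (m : Γ(M, V)), φ.app V m = N.presheaf.map (homOfLE h).op n) : Epi φ := by
  refine ⟨fun {Q} a b hab => ?_⟩
  apply Scheme.Modules.hom_ext
  intro U
  ext n
  apply K583.DerAffine.eq_of_locally
  intro x hx
  obtain ⟨V, h, hxV, m, hm⟩ := H U n x hx
  refine ⟨V, h, hxV, ?_⟩
  rw [← K137.Basic.app_res, ← K137.Basic.app_res, ← hm]
  exact congr(($(hab).app V) m)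

end Epi

end K136.PullSq
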