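import Groth.Agent.CohqA.BasisHom
import Groth.Agent.Fdesc.Skyscraper

/-!
# Morphisms of sheaves of modules from a compatible family of maps on stalks

* `exists_hom_of_stalks`: a family of linear maps `u x : M_x → G_x` which locally sends sections to
  sections comes from a morphism.
* `hom_ext_stalk`, `section_ext_germ`.
-/

set_option autoImplicit false
set_option linter.unusedVariables false
universe u
open CategoryTheory CategoryTheory.Limits AlgebraicGeometry TopologicalSpace Opposite

namespace K136.StalkGlue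

open Groth.Agent.Fdesc.Skyscraper

variable {X : Scheme.{u}}

theorem germ_res (M : X.Modules) {U V : X.Opens} (h : V ≤ U) (x : X) (hx : x ∈ V) (s : Γ(M, U)) :
    M.presheaf.germ V x hx (M.presheaf.map (homOfLE h).op s) = M.presheaf.germ U x (h hx) s :=
  TopCat.Presheaf.germ_res_apply M.presheaf (homOfLE h) x hx s

theorem germ_eq (M : X.Modules) {U V : X.Opens} (x : X) (hU : x ∈ U) (hV : x ∈ V) (s : Γ(M, U))
    (t : Γ(M, V)) (h : M.presheaf.germ U x hU s = M.presheaf.germ V x hV t) :
    ∃ (W : X.Opens) (hWU : W ≤ U) (hWV : W ≤ V), x ∈ W ∧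
      M.presheaf.map (homOfLE hWU).op s = M.presheaf.map (homOfLE hWV).op t := by
  obtain ⟨W, hx, iU, iV, e⟩ := TopCat.Presheaf.germ_eq M.presheaf x hU hV s t h
  exact ⟨W, leOfHom iU, leOfHom iV, hx, e⟩

theorem section_ext (M : X.Modules) {U : X.Opens} {s t : Γ(M, U)}
    (h : ∀ (x : X) (hx : x ∈ U), M.presheaf.germ U x hx s = M.presheaf.germ U x hx t) : s = t := by
  exact TopCat.Presheaf.section_ext (⟨M.presheaf, M.isSheaf⟩ : TopCat.Sheaf _ _) U s t h

theorem hom_ext_stalk {M G : X.Modules} {φ ψ : M ⟶ G}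
    (h : ∀ (x : X) (m : M.presheaf.stalk x), stalkMap φ x m = stalkMap ψ x m) : φ = ψ := by
  apply Scheme.Modules.hom_ext
  intro U
  ext s
  apply section_ext
  intro x hx
  have := h x (M.presheaf.germ U x hx s)
  rwa [stalkMap_germ, stalkMap_germ] at this

/-- Gluing: local sections with prescribed germs. -/
theorem exists_section (G : X.Modules) {U : X.Opens} (γ : ∀ x : X, G.presheaf.stalk x)
    (H : ∀ x ∈ U, ∃ (V : X.Opens) (_ : x ∈ V) (g : Γ(G, V)), ∀ (y : X) (hy : y ∈ V),
      γ y = G.presheaf.germ V y hy g) :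
    ∃ g : Γ(G, U), ∀ (y : X) (hy : y ∈ U), γ y = G.presheaf.germ U y hy g := by
  choose V hxV g hg using H
  let V' : U → X.Opens := fun x => V x.1 x.2 ⊓ U
  have hV' : ∀ x : U, V' x ≤ U := fun x => inf_le_right
  let g' : ∀ x : U, Γ(G, V' x) := fun x => G.presheaf.map (homOfLE inf_le_left).op (g x.1 x.2)
  have hg' : ∀ (x : U) (y : X) (hy : y ∈ V' x), γ y = G.presheaf.germ (V' x) y hy (g' x) := by
    intro x y hy
    rw [germ_res G inf_le_left y hy (g x.1 x.2)]
    exact hg x.1 x.2 y hy.1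
  obtain ⟨t, ht, -⟩ := TopCat.Sheaf.existsUnique_gluing' (⟨G.presheaf, G.isSheaf⟩ : TopCat.Sheaf _ _)
    V' U (fun x => homOfLE (hV' x)) (fun x hx => Opens.mem_iSup.2 ⟨⟨x, hx⟩, hxV x hx, hx⟩) g' (by
      intro x x'
      apply section_ext G
      intro y hy
      refine (germ_res G inf_le_left y hy (g' x)).trans
        (Eq.trans ?_ (germ_res G inf_le_right y hy (g' x')).symm)
      rw [← hg' x y hy.1, ← hg' x' y hy.2])
  refine ⟨t, fun y hy => ?_⟩
  have h1 := ht ⟨y, hy⟩
  have hy' : y ∈ V' ⟨y, hy⟩ := ⟨hxV y hy, hy⟩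
  rw [hg' ⟨y, hy⟩ y hy', ← h1]
  exact germ_res G (hV' ⟨y, hy⟩) y hy' t

/-- A compatible family of linear maps on stalks comes from a morphism of modules. -/
theorem exists_hom_of_stalks {M G : X.Modules}
    (u : ∀ x : X, M.presheaf.stalk x →ₗ[X.presheaf.stalk x] G.presheaf.stalk x)
    (H : ∀ (U : X.Opens) (m : Γ(M, U)) (x : X) (hx : x ∈ U), ∃ (V : X.Opens) (hV : V ≤ U)
      (_ : x ∈ V) (g : Γ(G, V)), ∀ (y : X) (hy : y ∈ V),
        u y (M.presheaf.germ U y (hV hy) m) = G.presheaf.germ V y hy g) :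
    ∃ φ : M ⟶ G, ∀ (x : X) (m : M.presheaf.stalk x), stalkMap φ x m = u x m := by
  classical
  have key : ∀ (U : X.Opens) (m : Γ(M, U)), ∃ g : Γ(G, U), ∀ (y : X) (hy : y ∈ U),
      u y (M.presheaf.germ U y hy m) = G.presheaf.germ U y hy g := by
    intro U m
    obtain ⟨g, hg⟩ := exists_section G (U := U)
      (fun y => if hy : y ∈ U then u y (M.presheaf.germ U y hy m) else 0) (by
        intro x hx
        obtain ⟨V, hV, hxV, g, hg⟩ := H U m x hx
        refine ⟨V, hxV, g, fun y hy => ?_⟩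
        rw [dif_pos (hV hy)]
        exact hg y hy)
    refine ⟨g, fun y hy => ?_⟩
    rw [← hg y hy, dif_pos hy]
  choose φ hφ using key
  obtain ⟨ψ, hψ⟩ := Groth.Agent.CohqA.BasisHom.exists_hom_of_basis (M := M) (N := G)
    (fun U : X.Opens => U)
    (by rw [Set.range_id']; exact Opens.isBasis_iff_nbhd.2 fun {U x} hx => ⟨U, trivial, hx, le_rfl⟩)
    (fun U => AddMonoidHom.mk' (φ U) (fun s t => by
          apply section_ext
          intro y hy
          rw [← hφ, map_add, map_add, map_add, hφ, hφ]))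
    (by
      intro V U h s
      apply section_ext
      intro y hy
      change G.presheaf.germ V y hy (φ V (M.presheaf.map (homOfLE h).op s)) =
        G.presheaf.germ V y hy (G.presheaf.map (homOfLE h).op (φ U s))
      rw [← hφ, germ_res, germ_res, hφ])
    (by
      intro U r s
      apply section_ext
      intro y hy
      change G.presheaf.germ U y hy (φ U (r • s)) = G.presheaf.germ U y hy (r • φ U s)
      rw [← hφ, germ_smul, germ_smul, map_smul, hφ])
  refine ⟨ψ, fun x m => ?_⟩
  obtain ⟨U, hU, s, rfl⟩ := TopCat.Presheaf.exists_germ_eq M.presheaf m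
  rw [stalkMap_germ, hφ]
  congr 1
  exact hψ U s

end K136.StalkGlue
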