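import Groth.Agent.Nrm16.K136.AlgPPLoc
import Groth.Agent.Nrm16.K136.StalkGlue
import Groth.Agent.Nrm16.K137.Chart
import Groth.Agent.Fdesc.PullbackStalk

/-!
# The stalks of the infinitesimal neighbourhoods of the diagonal as models of principal parts

* `stalkAt h z x hx : O_{X,x} → O_{Y,z}` for `h : Y ⟶ X`, `h z = x`; `canAt`, `pushAt` for modules;
* `isPPModel`: `O_{nbhd, z}` is a model of the ring-level principal parts `PP16.P n O_{S, f x} O_{X, x}`.
-/

set_option autoImplicit false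
set_option linter.unusedVariables false
set_option linter.style.haveILetI false
universe u

open CategoryTheory CategoryTheory.Limits AlgebraicGeometry TopologicalSpace Opposite PrinPart
open scoped TensorProduct

namespace K136.StalkModel

open Groth.Agent
open Groth.Agent.Fdesc.Skyscraper Groth.Agent.Fdesc.PullbackStalk
open K136.AlgPP

section At

variable {X Y : Scheme.{u}} (h : Y ⟶ X)

/-- The map on stalks, at a point `x` with `h z = x`. -/
noncomputable def stalkAt (z : Y) (x : X) (hx : h z = x) : X.presheaf.stalk x ⟶ Y.presheaf.stalk z :=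
  X.presheaf.stalkSpecializes (specializes_of_eq hx) ≫ h.stalkMap z

theorem stalkAt_rfl (z : Y) : stalkAt h z (h z) rfl = h.stalkMap z := by
  rw [stalkAt, TopCat.Presheaf.stalkSpecializes_refl, Category.id_comp]

theorem stalkAt_germ (z : Y) (x : X) (hx : h z = x) (U : X.Opens) (hU : x ∈ U) (hU' : z ∈ h ⁻¹ᵁ U)
    (a : Γ(X, U)) :
    stalkAt h z x hx (X.presheaf.germ U x hU a) = Y.presheaf.germ (h ⁻¹ᵁ U) z hU' (h.app U a) := by
  subst hx
  rw [stalkAt_rfl]
  exact Scheme.Hom.germ_stalkMap_apply h U z hU a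

theorem stalkAt_germ' (z : Y) (x : X) (hx : h z = x) (U : X.Opens) (hU : x ∈ U) (W : Y.Opens)
    (hW : z ∈ W) (hWU : W ≤ h ⁻¹ᵁ U) (a : Γ(X, U)) :
    stalkAt h z x hx (X.presheaf.germ U x hU a) = Y.presheaf.germ W z hW (h.appLE U W hWU a) := by
  rw [stalkAt_germ h z x hx U hU (hWU hW)]
  exact (TopCat.Presheaf.germ_res_apply Y.presheaf (homOfLE hWU) z hW (h.app U a)).symm

instance isLocalHom_stalkAt (z : Y) (x : X) (hx : h z = x) : IsLocalHom (stalkAt h z x hx).hom := by
  subst hx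
  rw [stalkAt_rfl]
  infer_instance

/-- The canonical map `M_x → (h^* M)_z` at a point `x` with `h z = x`. -/
noncomputable def canAt (M : X.Modules) (z : Y) (x : X) (hx : h z = x) :
    M.presheaf.stalk x →+ ((Scheme.Modules.pullback h).obj M).presheaf.stalk z :=
  (canAdd h M z).comp (M.presheaf.stalkSpecializes (specializes_of_eq hx)).hom

theorem canAt_rfl (M : X.Modules) (z : Y) : canAt h M z (h z) rfl = canAdd h M z := by
  rw [canAt, TopCat.Presheaf.stalkSpecializes_refl]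
  rfl

theorem canAt_germ (M : X.Modules) (z : Y) (x : X) (hx : h z = x) (U : X.Opens) (hU : x ∈ U)
    (hU' : z ∈ h ⁻¹ᵁ U) (m : Γ(M, U)) :
    canAt h M z x hx (M.presheaf.germ U x hU m) =
      ((Scheme.Modules.pullback h).obj M).presheaf.germ (h ⁻¹ᵁ U) z hU' (OmegaSh.pullSect h M U m) := by
  subst hx
  rw [canAt_rfl]
  exact canAdd_germ h M z U hU m

theorem canAt_smul (M : X.Modules) (z : Y) (x : X) (hx : h z = x) (r : X.presheaf.stalk x)
    (m : M.presheaf.stalk x) : canAt h M z x hx (r • m) = stalkAt h z x hx r • canAt h M z x hx m := by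
  subst hx
  rw [canAt_rfl, stalkAt_rfl]
  exact canAdd_smul h M z r m

/-- The canonical map as a linear map. -/
theorem isBaseChange_canAt (M : X.Modules) (z : Y) (x : X) (hx : h z = x)
    [i1 : Algebra (X.presheaf.stalk x) (Y.presheaf.stalk z)]
    (h1 : ∀ r, algebraMap (X.presheaf.stalk x) (Y.presheaf.stalk z) r = stalkAt h z x hx r)
    [i2 : Module (X.presheaf.stalk x) (((Scheme.Modules.pullback h).obj M).presheaf.stalk z)]
    [i3 : IsScalarTower (X.presheaf.stalk x) (Y.presheaf.stalk z)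
      (((Scheme.Modules.pullback h).obj M).presheaf.stalk z)] :
    ∃ c : M.presheaf.stalk x →ₗ[X.presheaf.stalk x] ((Scheme.Modules.pullback h).obj M).presheaf.stalk z,
      (∀ m, c m = canAt h M z x hx m) ∧ IsBaseChange (Y.presheaf.stalk z) c := by
  subst hx
  have e1 : i1 = stalkAlg h z := Algebra.algebra_ext _ _ fun r => by
    rw [h1, stalkAt_rfl]
    rfl
  subst e1
  have e2 : i2 = FlatMod.moduleStalkOver h ((Scheme.Modules.pullback h).obj M) z := by
    refine Module.ext' _ _ fun r m => ?_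
    letI := stalkAlg h z
    have h2 := algebraMap_smul (Y.presheaf.stalk z) r m
    exact h2.symm
  subst e2
  exact ⟨can h M z, fun m => by rw [canAt_rfl]; rfl, isBaseChange_can h M z⟩

/-- The semilinear map `(h_* N)_x → N_z`. -/
noncomputable def pushAt (N : Y.Modules) (z : Y) (x : X) (hx : h z = x) :
    ((Scheme.Modules.pushforward h).obj N).presheaf.stalk x →+ N.presheaf.stalk z :=
  (pushAdd h N z).comp (((Scheme.Modules.pushforward h).obj N).presheaf.stalkSpecializes
    (specializes_of_eq hx)).hom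

theorem pushAt_rfl (N : Y.Modules) (z : Y) : pushAt h N z (h z) rfl = pushAdd h N z := by
  rw [pushAt, TopCat.Presheaf.stalkSpecializes_refl]
  rfl

theorem pushAt_germ (N : Y.Modules) (z : Y) (x : X) (hx : h z = x) (U : X.Opens) (hU : x ∈ U)
    (hU' : z ∈ h ⁻¹ᵁ U) (m : Γ(N, h ⁻¹ᵁ U)) :
    pushAt h N z x hx (((Scheme.Modules.pushforward h).obj N).presheaf.germ U x hU m) =
      N.presheaf.germ (h ⁻¹ᵁ U) z hU' m := by
  subst hx
  rw [pushAt_rfl]
  exact pushAdd_germ h N z U hU m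

theorem pushAt_smul (N : Y.Modules) (z : Y) (x : X) (hx : h z = x) (r : X.presheaf.stalk x)
    (m : ((Scheme.Modules.pushforward h).obj N).presheaf.stalk x) :
    pushAt h N z x hx (r • m) = stalkAt h z x hx r • pushAt h N z x hx m := by
  subst hx
  rw [pushAt_rfl, stalkAt_rfl]
  exact pushAdd_smul h N z r m

/-- For an embedding, the stalks of the direct image are the stalks. -/
theorem pushAt_bijective (hi : Topology.IsInducing h) (N : Y.Modules) (z : Y) (x : X) (hx : h z = x) :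
    Function.Bijective (pushAt h N z x hx) := by
  subst hx
  have key : ∀ (W : Y.Opens), z ∈ W → ∃ (V : X.Opens), h z ∈ V ∧ h ⁻¹ᵁ V ≤ W := by
    intro W hW
    obtain ⟨V, hV, hVW⟩ := hi.isOpen_iff.1 W.2
    refine ⟨⟨V, hV⟩, ?_, ?_⟩
    · have : z ∈ h ⁻¹' V := by rw [hVW]; exact hW
      exact this
    · intro y hy
      have : y ∈ h ⁻¹' V := hy
      rw [hVW] at this
      exact this
  constructor
  · rw [injective_iff_map_eq_zero]
    intro s hs
    obtain ⟨U, hU, s, rfl⟩ := TopCat.Presheaf.exists_germ_eq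
      ((Scheme.Modules.pushforward h).obj N).presheaf s
    rw [pushAt_germ h N z (h z) rfl U hU hU] at hs
    have hs' : N.presheaf.germ (h ⁻¹ᵁ U) z hU s = N.presheaf.germ (h ⁻¹ᵁ U) z hU 0 := by
      rw [hs, map_zero]
    obtain ⟨W, hW1, hW2, hzW, e⟩ := StalkGlue.germ_eq N z hU hU s 0 hs'
    obtain ⟨V, hV, hVW⟩ := key W hzW
    have h1 : ((Scheme.Modules.pushforward h).obj N).presheaf.map
        (homOfLE (inf_le_right : V ⊓ U ≤ U)).op s = 0 := by
      have h2 := congrArg (N.presheaf.map (homOfLE ((h.preimage_mono inf_le_left).trans hVW :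
        h ⁻¹ᵁ (V ⊓ U) ≤ W)).op) e
      rw [OmegaSh.resM_resM, OmegaSh.resM_resM, map_zero] at h2
      exact h2
    rw [← StalkGlue.germ_res ((Scheme.Modules.pushforward h).obj N)
      (inf_le_right : V ⊓ U ≤ U) (h z) ⟨hV, hU⟩ s, h1, map_zero]
  · intro t
    obtain ⟨W, hW, t, rfl⟩ := TopCat.Presheaf.exists_germ_eq N.presheaf t
    obtain ⟨V, hV, hVW⟩ := key W hW
    refine ⟨((Scheme.Modules.pushforward h).obj N).presheaf.germ V (h z) hV
      (N.presheaf.map (homOfLE hVW).op t), ?_⟩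
    rw [pushAt_germ h N z (h z) rfl V hV hV]
    exact StalkGlue.germ_res N hVW z hV t

end At

section Model

variable {X S : Scheme.{u}} (f : X ⟶ S) (n : ℕ)

/-- The algebra structure of `O_{X,x}` over `O_{S, f x}`. -/
noncomputable abbrev algS (x : X) : Algebra (S.presheaf.stalk (f x)) (X.presheaf.stalk x) :=
  (f.stalkMap x).hom.toAlgebra

variable (z : nbhd f n) (x : X) (h1 : pr1 f n z = x) (h2 : pr2 f n z = x)

/-- The right algebra structure. -/
noncomputable abbrev algX : Algebra (X.presheaf.stalk x) ((nbhd f n).presheaf.stalk z) :=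
  (stalkAt (pr2 f n) z x h2).hom.toAlgebra

/-- The `O_S`-algebra structure. -/
noncomputable abbrev algSN : Algebra (S.presheaf.stalk (f x)) ((nbhd f n).presheaf.stalk z) :=
  ((stalkAt (pr2 f n) z x h2).hom.comp (f.stalkMap x).hom).toAlgebra

theorem tower :
    letI := algS f x
    letI := algX f n z x h2
    letI := algSN f n z x h2
    IsScalarTower (S.presheaf.stalk (f x)) (X.presheaf.stalk x) ((nbhd f n).presheaf.stalk z) := by
  letI := algS f x
  letI := algX f n z x h2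
  letI := algSN f n z x h2
  exact IsScalarTower.of_algebraMap_eq' rfl

include h1 h2 in
theorem comp_stalkAt (r : S.presheaf.stalk (f x)) :
    stalkAt (pr1 f n) z x h1 (f.stalkMap x r) = stalkAt (pr2 f n) z x h2 (f.stalkMap x r) := by
  obtain ⟨V, hV, r, rfl⟩ := TopCat.Presheaf.exists_germ_eq S.presheaf r
  rw [Scheme.Hom.germ_stalkMap_apply]
  rw [stalkAt_germ _ _ _ _ _ _ (show z ∈ pr1 f n ⁻¹ᵁ (f ⁻¹ᵁ V) by change f (pr1 f n z) ∈ V; rwa [h1]),
    stalkAt_germ _ _ _ _ _ _ (show z ∈ pr2 f n ⁻¹ᵁ (f ⁻¹ᵁ V) by change f (pr2 f n z) ∈ V; rwa [h2])]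
  have e := pr1_comp f n
  have e2 : ∀ (g₁ g₂ : nbhd f n ⟶ S) (e : g₁ = g₂) (m1 : z ∈ g₁ ⁻¹ᵁ V) (m2 : z ∈ g₂ ⁻¹ᵁ V),
      (nbhd f n).presheaf.germ (g₁ ⁻¹ᵁ V) z m1 (g₁.app V r) =
        (nbhd f n).presheaf.germ (g₂ ⁻¹ᵁ V) z m2 (g₂.app V r) := by
    rintro g₁ _ rfl m1 m2
    rfl
  exact e2 _ _ e _ _

/-- The left algebra structure. -/
noncomputable def b₁ :
    letI := algS f x
    letI := algSN f n z x h2
    X.presheaf.stalk x →ₐ[S.presheaf.stalk (f x)] (nbhd f n).presheaf.stalk z :=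
  letI := algS f x
  letI := algSN f n z x h2
  { (stalkAt (pr1 f n) z x h1).hom with
    commutes' := fun r => comp_stalkAt f n z x h1 h2 r }

theorem b₁_apply (b : X.presheaf.stalk x) : b₁ f n z x h1 h2 b = stalkAt (pr1 f n) z x h1 b := rfl

/-- The stalk of the infinitesimal neighbourhood is a model of the ring-level principal parts. -/
theorem isPPModel :
    letI := algS f x
    letI := algX f n z x h2
    letI := algSN f n z x h2
    haveI := tower f n z x h2
    IsPPModel n (b₁ f n z x h1 h2) := by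
  letI := algS f x
  letI := algX f n z x h2
  letI := algSN f n z x h2
  haveI := tower f n z x h2
  obtain ⟨V, U, hfx, hx, -, -, e⟩ := Divis.IdealComap.exists_affine_le f x ⊤ trivial ⊤ trivial
  obtain ⟨V, hV⟩ := V
  obtain ⟨U, hU⟩ := U
  dsimp only at hfx hx e
  have hW := K137.Nbhd.isAffineOpen_pr1 e n hV hU
  have hz : z ∈ pr1 f n ⁻¹ᵁ U := by change pr1 f n z ∈ U; rwa [h1]
  have hz2 : pr1 f n ⁻¹ᵁ U ≤ pr2 f n ⁻¹ᵁ U := (preimage_pr1 f n U).le
  -- the section rings
  letI i1 : Algebra Γ(S, V) Γ(X, U) := (f.appLE V U e).hom.toAlgebra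
  letI i2 : Algebra Γ(X, U) Γ(nbhd f n, pr1 f n ⁻¹ᵁ U) := ((pr2 f n).appLE U _ hz2).hom.toAlgebra
  letI i3 : Algebra Γ(S, V) Γ(nbhd f n, pr1 f n ⁻¹ᵁ U) :=
    (((pr2 f n).appLE U _ hz2).hom.comp (f.appLE V U e).hom).toAlgebra
  haveI : IsScalarTower Γ(S, V) Γ(X, U) Γ(nbhd f n, pr1 f n ⁻¹ᵁ U) := IsScalarTower.of_algebraMap_eq' rfl
  have comm : ∀ r : Γ(S, V), (pr1 f n).app U (f.appLE V U e r) =
      (pr2 f n).appLE U (pr1 f n ⁻¹ᵁ U) hz2 (f.appLE V U e r) := by
    intro r
    have h3 : f.appLE V U e ≫ (pr1 f n).app U = f.appLE V U e ≫ (pr2 f n).appLE U _ hz2 := by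
      rw [← Scheme.Hom.appLE_eq_app, Scheme.Hom.appLE_comp_appLE, Scheme.Hom.appLE_comp_appLE]
      congr 1
      exact pr1_comp f n
    exact congr($h3 r)
  let a₁ : Γ(X, U) →ₐ[Γ(S, V)] Γ(nbhd f n, pr1 f n ⁻¹ᵁ U) :=
    { ((pr1 f n).app U).hom with commutes' := fun r => comm r }
  obtain ⟨t, ht, hs, hk⟩ := K137.Chart.exists_tot e (A := Γ(S, V)) (B := Γ(X, U)) n hV hU (Iso.refl _)
    (Iso.refl _) rfl
  have htp : ∀ w, t w = prodMap a₁ w := by
    intro w
    induction w using TensorProduct.induction_on with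
    | zero => simp
    | add x y hx hy => rw [map_add, map_add, hx, hy]
    | tmul b b' =>
      rw [ht, prodMap, Algebra.TensorProduct.productMap_apply_tmul]
      rfl
  have hmod : IsPPModel n a₁ := by
    constructor
    · intro y
      obtain ⟨w, rfl⟩ := hs y
      exact ⟨w, (htp w).symm⟩
    · intro w
      rw [← htp, ← hk, RingHom.mem_ker]
  -- the stalks as localizations
  letI j1 : Algebra Γ(S, V) (S.presheaf.stalk (f x)) := (S.presheaf.germ V (f x) hfx).hom.toAlgebra
  haveI l1 : IsLocalization.AtPrime (S.presheaf.stalk (f x)) (hV.primeIdealOf ⟨f x, hfx⟩).asIdeal :=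
    hV.isLocalization_stalk ⟨f x, hfx⟩
  letI j2 : Algebra Γ(X, U) (X.presheaf.stalk x) := (X.presheaf.germ U x hx).hom.toAlgebra
  haveI l2 : IsLocalization.AtPrime (X.presheaf.stalk x) (hU.primeIdealOf ⟨x, hx⟩).asIdeal :=
    hU.isLocalization_stalk ⟨x, hx⟩
  letI j3 : Algebra Γ(nbhd f n, pr1 f n ⁻¹ᵁ U) ((nbhd f n).presheaf.stalk z) :=
    ((nbhd f n).presheaf.germ _ z hz).hom.toAlgebra
  haveI l3 : IsLocalization.AtPrime ((nbhd f n).presheaf.stalk z) (hW.primeIdealOf ⟨z, hz⟩).asIdeal :=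
    hW.isLocalization_stalk ⟨z, hz⟩
  letI j4 : Algebra Γ(S, V) (X.presheaf.stalk x) :=
    ((f.stalkMap x).hom.comp (S.presheaf.germ V (f x) hfx).hom).toAlgebra
  haveI : IsScalarTower Γ(S, V) (S.presheaf.stalk (f x)) (X.presheaf.stalk x) :=
    IsScalarTower.of_algebraMap_eq' rfl
  haveI : IsScalarTower Γ(S, V) Γ(X, U) (X.presheaf.stalk x) := by
    refine IsScalarTower.of_algebraMap_eq fun r => ?_
    change f.stalkMap x (S.presheaf.germ V (f x) hfx r) = X.presheaf.germ U x hx (f.appLE V U e r)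
    rw [Scheme.Hom.germ_stalkMap_apply]
    exact (TopCat.Presheaf.germ_res_apply X.presheaf (homOfLE e) x hx (f.app V r)).symm
  have hb1 : ∀ c : Γ(X, U), stalkAt (pr1 f n) z x h1 (X.presheaf.germ U x hx c) =
      (nbhd f n).presheaf.germ _ z hz ((pr1 f n).app U c) :=
    fun c => stalkAt_germ (pr1 f n) z x h1 U hx hz c
  have hb2 : ∀ c : Γ(X, U), stalkAt (pr2 f n) z x h2 (X.presheaf.germ U x hx c) =
      (nbhd f n).presheaf.germ _ z hz ((pr2 f n).appLE U _ hz2 c) :=
    fun c => stalkAt_germ' (pr2 f n) z x h2 U hx _ hz hz2 c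
  refine hmod.localization (hW.primeIdealOf ⟨z, hz⟩).asIdeal
    (hV.primeIdealOf ⟨f x, hfx⟩).asIdeal.primeCompl (hU.primeIdealOf ⟨x, hx⟩).asIdeal.primeCompl
    ?_ ?_ hb1 hb2
  · intro c
    rw [← IsLocalization.AtPrime.isUnit_to_map_iff (X.presheaf.stalk x)
      (hU.primeIdealOf ⟨x, hx⟩).asIdeal c]
    change _ ↔ a₁ c ∈ (hW.primeIdealOf ⟨z, hz⟩).asIdeal.primeCompl
    rw [← IsLocalization.AtPrime.isUnit_to_map_iff ((nbhd f n).presheaf.stalk z)
      (hW.primeIdealOf ⟨z, hz⟩).asIdeal (a₁ c)]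
    change _ ↔ IsUnit ((nbhd f n).presheaf.germ _ z hz ((pr1 f n).app U c))
    rw [← hb1]
    exact (isUnit_map_iff (stalkAt (pr1 f n) z x h1).hom _).symm
  · intro r hr
    rw [← IsLocalization.AtPrime.isUnit_to_map_iff (S.presheaf.stalk (f x))
      (hV.primeIdealOf ⟨f x, hfx⟩).asIdeal r] at hr
    rw [← IsLocalization.AtPrime.isUnit_to_map_iff (X.presheaf.stalk x)
      (hU.primeIdealOf ⟨x, hx⟩).asIdeal, ← IsScalarTower.algebraMap_apply,
      IsScalarTower.algebraMap_apply Γ(S, V) (S.presheaf.stalk (f x)) (X.presheaf.stalk x)]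
    exact hr.map _

end Model

end K136.StalkModel
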