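import Groth.Agent.Nrm16.K136.StalkModel
import Groth.Agent.S2798
import Groth.Agent.S2799

/-!
# The stalks of the modules of principal parts

* `inducing_pr1`;
* `dStalk f n F x : F_x →+ (P^n(F))_x` the universal operator on stalks (`dStalk_germ`);
* `stalk_hom_ext`, `exists_stalk_factor`, `isDiffOpLE_stalk`: `dStalk` is the universal differential operator of
  order `≤ n` over `O_{S, f x}`.
-/

set_option autoImplicit false
set_option linter.unusedVariables false
set_option linter.style.haveILetI false
universe u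

open CategoryTheory CategoryTheory.Limits AlgebraicGeometry TopologicalSpace Opposite PrinPart
open scoped TensorProduct

namespace K136.StalkPP

open Groth.Agent
open Groth.Agent.Fdesc.Skyscraper Groth.Agent.Fdesc.PullbackStalk
open K136.AlgPP K136.StalkModel

variable {X S : Scheme.{u}} (f : X ⟶ S) (n : ℕ)

theorem inducing_pr1 : Topology.IsInducing (pr1 f n) := by
  have h : (toNbhd f n : X → nbhd f n) ∘ (pr1 f n) = id := by
    funext z
    obtain ⟨y, rfl⟩ := toInfNbhd_surjective (diagCl f) n z
    have h1 : pr1 f n (toInfNbhd (diagCl f) n y) = y := by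
      rw [← Scheme.Hom.comp_apply, toNbhd_pr1]
      rfl
    change toNbhd f n (pr1 f n (toInfNbhd (diagCl f) n y)) = _
    rw [h1]
    rfl
  refine Topology.IsInducing.of_comp (pr1 f n).continuous (toNbhd f n).continuous ?_
  rw [h]
  exact Topology.IsInducing.id

theorem exists_point (x : X) : ∃ z : nbhd f n, pr1 f n z = x ∧ pr2 f n z = x := by
  have h1 : pr1 f n (toNbhd f n x) = x := by
    rw [← Scheme.Hom.comp_apply, toNbhd_pr1]
    rfl
  exact ⟨toNbhd f n x, h1, by rw [← pr1_apply, h1]⟩

variable (F : X.Modules) (x : X)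

/-- The universal operator on stalks. -/
noncomputable def dStalk : F.presheaf.stalk x →+ (PMod f n F).presheaf.stalk x :=
  ((TopCat.Presheaf.stalkFunctor Ab.{u} x).map (dPHom f n F)).hom

theorem dStalk_germ (U : X.Opens) (hU : x ∈ U) (t : Γ(F, U)) :
    dStalk f n F x (F.presheaf.germ U x hU t) = (PMod f n F).presheaf.germ U x hU (dP f n F U t) :=
  TopCat.Presheaf.stalkFunctor_map_germ_apply U x hU (dPHom f n F) t

section Point

variable {x} (z : nbhd f n) (h1 : pr1 f n z = x) (h2 : pr2 f n z = x)

/-- The stalk of `P^n(F)` is the stalk of the pullback along the second projection. -/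
noncomputable def sg : (PMod f n F).presheaf.stalk x ≃+
    ((Scheme.Modules.pullback (pr2 f n)).obj F).presheaf.stalk z :=
  AddEquiv.ofBijective (pushAt (pr1 f n) ((Scheme.Modules.pullback (pr2 f n)).obj F) z x h1)
    (pushAt_bijective (pr1 f n) (inducing_pr1 f n) _ z x h1)

theorem sg_smul (r : X.presheaf.stalk x) (m : (PMod f n F).presheaf.stalk x) :
    sg f n F z h1 (r • m) = stalkAt (pr1 f n) z x h1 r • sg f n F z h1 m :=
  pushAt_smul (pr1 f n) _ z x h1 r m

include h2 in
theorem sg_dStalk (m : F.presheaf.stalk x) :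
    sg f n F z h1 (dStalk f n F x m) = canAt (pr2 f n) F z x h2 m := by
  obtain ⟨U, hU, t, rfl⟩ := TopCat.Presheaf.exists_germ_eq F.presheaf m
  have hz : z ∈ pr1 f n ⁻¹ᵁ U := by change pr1 f n z ∈ U; rwa [h1]
  have hz' : z ∈ pr2 f n ⁻¹ᵁ U := by change pr2 f n z ∈ U; rwa [h2]
  rw [dStalk_germ, canAt_germ (pr2 f n) F z x h2 U hU hz']
  refine (pushAt_germ (pr1 f n) ((Scheme.Modules.pullback (pr2 f n)).obj F) z x h1 U hU hz
    (dP f n F U t)).trans ?_
  exact StalkGlue.germ_res ((Scheme.Modules.pullback (pr2 f n)).obj F) (preimage_pr1 f n U).le z hz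
    (OmegaSh.pullSect (pr2 f n) F U t)

end Point

/-- The universal operator is linear over the local ring of `S`. -/
theorem dStalk_smul (r : S.presheaf.stalk (f x)) (m : F.presheaf.stalk x) :
    dStalk f n F x (f.stalkMap x r • m) = f.stalkMap x r • dStalk f n F x m := by
  obtain ⟨z, h1, h2⟩ := exists_point f n x
  apply (sg f n F z h1).injective
  rw [sg_smul, sg_dStalk f n F z h1 h2, sg_dStalk f n F z h1 h2, canAt_smul,
    comp_stalkAt f n z x h1 h2]

section Universal

variable {Q : Type u} [AddCommGroup Q] [Module (X.presheaf.stalk x) Q]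

theorem stalk_hom_ext {u v : (PMod f n F).presheaf.stalk x →ₗ[X.presheaf.stalk x] Q}
    (huv : ∀ m, u (dStalk f n F x m) = v (dStalk f n F x m)) : u = v := by
  obtain ⟨z, h1, h2⟩ := exists_point f n x
  letI := algS f x
  letI := algX f n z x h2
  letI := algSN f n z x h2
  haveI := tower f n z x h2
  letI : Module (X.presheaf.stalk x)
      (((Scheme.Modules.pullback (pr2 f n)).obj F).presheaf.stalk z) :=
    Module.compHom _ (stalkAt (pr2 f n) z x h2).hom
  haveI : IsScalarTower (X.presheaf.stalk x) ((nbhd f n).presheaf.stalk z)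
      (((Scheme.Modules.pullback (pr2 f n)).obj F).presheaf.stalk z) :=
    ⟨fun r a m => by rw [Algebra.smul_def, mul_smul]; rfl⟩
  obtain ⟨c, hc, hbc⟩ := isBaseChange_canAt (pr2 f n) F z x h2 (fun _ => rfl)
  have key := (isPPModel f n z x h1 h2).hom_ext hbc
    (u := u.toAddMonoidHom.comp (sg f n F z h1).symm.toAddMonoidHom)
    (v := v.toAddMonoidHom.comp (sg f n F z h1).symm.toAddMonoidHom)
    (by
      intro b t
      obtain ⟨t, rfl⟩ := (sg f n F z h1).surjective t
      change u ((sg f n F z h1).symm (stalkAt (pr1 f n) z x h1 b • sg f n F z h1 t)) =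
        b • u ((sg f n F z h1).symm (sg f n F z h1 t))
      rw [← sg_smul, AddEquiv.symm_apply_apply, AddEquiv.symm_apply_apply, map_smul])
    (by
      intro b t
      obtain ⟨t, rfl⟩ := (sg f n F z h1).surjective t
      change v ((sg f n F z h1).symm (stalkAt (pr1 f n) z x h1 b • sg f n F z h1 t)) =
        b • v ((sg f n F z h1).symm (sg f n F z h1 t))
      rw [← sg_smul, AddEquiv.symm_apply_apply, AddEquiv.symm_apply_apply, map_smul])
    (by
      intro m
      rw [hc, ← sg_dStalk f n F z h1 h2]
      change u ((sg f n F z h1).symm (sg f n F z h1 _)) = v ((sg f n F z h1).symm (sg f n F z h1 _))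
      rw [AddEquiv.symm_apply_apply, huv])
  ext t
  have h3 := DFunLike.congr_fun key (sg f n F z h1 t)
  change u ((sg f n F z h1).symm (sg f n F z h1 t)) = v ((sg f n F z h1).symm (sg f n F z h1 t)) at h3
  rwa [AddEquiv.symm_apply_apply] at h3

/-- The stalk of `P^n(F)` is generated by the image of the universal operator. -/
theorem span_dStalk : Submodule.span (X.presheaf.stalk x) (Set.range (dStalk f n F x)) = ⊤ := by
  have h : (Submodule.span (X.presheaf.stalk x) (Set.range (dStalk f n F x))).mkQ = 0 :=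
    stalk_hom_ext f n F x fun m => by
      rw [LinearMap.zero_apply, Submodule.mkQ_apply, Submodule.Quotient.mk_eq_zero]
      exact Submodule.subset_span ⟨m, rfl⟩
  exact (Submodule.ker_mkQ _).symm.trans (by rw [h, LinearMap.ker_zero])

variable [Algebra (S.presheaf.stalk (f x)) (X.presheaf.stalk x)]
  (hA : ∀ r, algebraMap (S.presheaf.stalk (f x)) (X.presheaf.stalk x) r = f.stalkMap x r)
  [Module (S.presheaf.stalk (f x)) (F.presheaf.stalk x)]
  [IsScalarTower (S.presheaf.stalk (f x)) (X.presheaf.stalk x) (F.presheaf.stalk x)]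
  [Module (S.presheaf.stalk (f x)) Q] [IsScalarTower (S.presheaf.stalk (f x)) (X.presheaf.stalk x) Q]
  (D : F.presheaf.stalk x →ₗ[S.presheaf.stalk (f x)] Q)

include hA in
theorem exists_stalk_factor
    (hD : Diff16.IsDiffOpLE (S.presheaf.stalk (f x)) (X.presheaf.stalk x) (F.presheaf.stalk x) Q n D) :
    ∃ u : (PMod f n F).presheaf.stalk x →ₗ[X.presheaf.stalk x] Q,
      ∀ m, u (dStalk f n F x m) = D m := by
  obtain ⟨z, h1, h2⟩ := exists_point f n x
  rename_i iA iM iT iQ iTQ
  have e0 : iA = algS f x := Algebra.algebra_ext _ _ fun r => by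
    rw [hA]
    rfl
  subst e0
  letI := algS f x
  letI := algX f n z x h2
  letI := algSN f n z x h2
  haveI := tower f n z x h2
  letI : Module (X.presheaf.stalk x)
      (((Scheme.Modules.pullback (pr2 f n)).obj F).presheaf.stalk z) :=
    Module.compHom _ (stalkAt (pr2 f n) z x h2).hom
  haveI : IsScalarTower (X.presheaf.stalk x) ((nbhd f n).presheaf.stalk z)
      (((Scheme.Modules.pullback (pr2 f n)).obj F).presheaf.stalk z) :=
    ⟨fun r a m => by rw [Algebra.smul_def, mul_smul]; rfl⟩
  obtain ⟨c, hc, hbc⟩ := isBaseChange_canAt (pr2 f n) F z x h2 (fun _ => rfl)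
  obtain ⟨u, hu, hu'⟩ := (isPPModel f n z x h1 h2).exists_factor hbc D hD
  refine ⟨{ u.comp (sg f n F z h1).toAddMonoidHom with
    map_smul' := fun r m => ?_ }, fun m => ?_⟩
  · change u (sg f n F z h1 (r • m)) = r • u (sg f n F z h1 m)
    rw [sg_smul]
    exact hu r _
  · change u (sg f n F z h1 (dStalk f n F x m)) = D m
    rw [sg_dStalk f n F z h1 h2, ← hc, hu']

include hA in
theorem isDiffOpLE_stalk (u : (PMod f n F).presheaf.stalk x →ₗ[X.presheaf.stalk x] Q)
    (hu : ∀ m, u (dStalk f n F x m) = D m) :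
    Diff16.IsDiffOpLE (S.presheaf.stalk (f x)) (X.presheaf.stalk x) (F.presheaf.stalk x) Q n D := by
  obtain ⟨z, h1, h2⟩ := exists_point f n x
  rename_i iA iM iT iQ iTQ
  have e0 : iA = algS f x := Algebra.algebra_ext _ _ fun r => by
    rw [hA]
    rfl
  subst e0
  letI := algS f x
  letI := algX f n z x h2
  letI := algSN f n z x h2
  haveI := tower f n z x h2
  letI : Module (X.presheaf.stalk x)
      (((Scheme.Modules.pullback (pr2 f n)).obj F).presheaf.stalk z) :=
    Module.compHom _ (stalkAt (pr2 f n) z x h2).hom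
  haveI : IsScalarTower (X.presheaf.stalk x) ((nbhd f n).presheaf.stalk z)
      (((Scheme.Modules.pullback (pr2 f n)).obj F).presheaf.stalk z) :=
    ⟨fun r a m => by rw [Algebra.smul_def, mul_smul]; rfl⟩
  obtain ⟨c, hc, hbc⟩ := isBaseChange_canAt (pr2 f n) F z x h2 (fun _ => rfl)
  refine (isPPModel f n z x h1 h2).isDiffOpLE hbc D
    (u.toAddMonoidHom.comp (sg f n F z h1).symm.toAddMonoidHom) (fun b t => ?_) (fun m => ?_)
  · obtain ⟨t, rfl⟩ := (sg f n F z h1).surjective t
    change u ((sg f n F z h1).symm (stalkAt (pr1 f n) z x h1 b • sg f n F z h1 t)) =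
      b • u ((sg f n F z h1).symm (sg f n F z h1 t))
    rw [← sg_smul, AddEquiv.symm_apply_apply, AddEquiv.symm_apply_apply, map_smul]
  · rw [hc, ← sg_dStalk f n F z h1 h2]
    change u ((sg f n F z h1).symm (sg f n F z h1 _)) = _
    rw [AddEquiv.symm_apply_apply, hu]

end Universal

end K136.StalkPP
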